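import Cfsg.Agent.GTwoOdd.BridgeAct
import Cfsg.Agent.GTwoOdd.SLNormal
set_option linter.all false

/-!
# Two commuting copies of `SL(2,F₁)`, `SL(2,F₂)` with common central involution

`Duo j F₁ F₂`: two commuting injective homomorphisms `e1 : SL(2,F₁) → G`, `e2 : SL(2,F₂) → G` with
`e1 (-1) = e2 (-1) = j`.
-/

set_option autoImplicit false

namespace Cfsg.Agent.H311

open Matrix Subgroup Cfsg.Agent.GTwoOdd Cfsg.Agent.ClassicalGeometry

/-- two commuting copies of `SL₂` with the same central involution `j` -/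
structure Duo {G : Type*} [Group G] (j : G) (F₁ F₂ : Type*) [Field F₁] [Field F₂] where
  /-- first factor -/
  e1 : SL2 F₁ →* G
  /-- second factor -/
  e2 : SL2 F₂ →* G
  inj1 : Function.Injective e1
  inj2 : Function.Injective e2
  comm : ∀ x y, e1 x * e2 y = e2 y * e1 x
  neg1 : e1 (-1) = j
  neg2 : e2 (-1) = j

namespace Duo

variable {G : Type*} [Group G] {j : G} {F₁ F₂ : Type*} [Field F₁] [Field F₂] (D : Duo j F₁ F₂)

/-- the two factors exchanged -/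
def sw : Duo j F₂ F₁ where
  e1 := D.e2
  e2 := D.e1
  inj1 := D.inj2
  inj2 := D.inj1
  comm x y := (D.comm y x).symm
  neg1 := D.neg2
  neg2 := D.neg1

/-- the product `L₁ L₂` -/
def Y : Subgroup G where
  carrier := {g | ∃ x y, D.e1 x * D.e2 y = g}
  mul_mem' := by
    rintro _ _ ⟨x, y, rfl⟩ ⟨x', y', rfl⟩
    refine ⟨x * x', y * y', ?_⟩
    rw [map_mul, map_mul, mul_assoc, mul_assoc, ← mul_assoc (D.e1 x'), D.comm x' y, mul_assoc]
  one_mem' := ⟨1, 1, by simp⟩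
  inv_mem' := by
    rintro _ ⟨x, y, rfl⟩
    refine ⟨x⁻¹, y⁻¹, ?_⟩
    rw [map_inv, map_inv, _root_.mul_inv_rev]
    exact (Commute.inv_inv (show Commute (D.e1 x) (D.e2 y) from D.comm x y)).eq

theorem mem_Y {g : G} : g ∈ D.Y ↔ ∃ x y, D.e1 x * D.e2 y = g := Iff.rfl

theorem e1_mem (x : SL2 F₁) : D.e1 x ∈ D.Y := ⟨x, 1, by simp⟩

theorem e2_mem (y : SL2 F₂) : D.e2 y ∈ D.Y := ⟨1, y, by simp⟩

theorem j_mem : j ∈ D.Y := by
  have h := D.e1_mem (-1)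
  rwa [D.neg1] at h

theorem Y_eq : D.Y = D.e1.range ⊔ D.e2.range := by
  apply le_antisymm
  · rintro _ ⟨x, y, rfl⟩
    exact mul_mem (mem_sup_left ⟨x, rfl⟩) (mem_sup_right ⟨y, rfl⟩)
  · rw [sup_le_iff]
    constructor
    · rintro _ ⟨x, rfl⟩
      exact D.e1_mem x
    · rintro _ ⟨y, rfl⟩
      exact D.e2_mem y

theorem mul_mul (a a' : SL2 F₁) (b b' : SL2 F₂) :
    (D.e1 a * D.e2 b) * (D.e1 a' * D.e2 b') = D.e1 (a * a') * D.e2 (b * b') := by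
  rw [map_mul, map_mul, mul_assoc, mul_assoc, ← mul_assoc (D.e1 a'), D.comm a' b, mul_assoc]

theorem mul_inv (a : SL2 F₁) (b : SL2 F₂) : (D.e1 a * D.e2 b)⁻¹ = D.e1 a⁻¹ * D.e2 b⁻¹ := by
  rw [_root_.mul_inv_rev, map_inv, map_inv]
  exact (Commute.inv_inv (show Commute (D.e1 a) (D.e2 b) from D.comm a b)).eq.symm

theorem conj_conj (a c : SL2 F₁) (b d : SL2 F₂) :
    (D.e1 a * D.e2 b) * (D.e1 c * D.e2 d) * (D.e1 a * D.e2 b)⁻¹ =
      D.e1 (a * c * a⁻¹) * D.e2 (b * d * b⁻¹) := by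
  rw [mul_inv, mul_mul, mul_mul]

include D in
theorem jj : j * j = 1 := by
  have h : D.e1 (-1) * D.e1 (-1) = 1 := by
    rw [← map_mul]
    simp
  rwa [D.neg1] at h

theorem e1_j (x : SL2 F₁) : D.e1 x * j = j * D.e1 x := by
  have h := D.comm x (-1)
  rwa [D.neg2] at h

theorem e2_j (y : SL2 F₂) : D.e2 y * j = j * D.e2 y := by
  have h := D.comm (-1) y
  rw [D.neg1] at h
  exact h.symm

theorem e1_neg (x : SL2 F₁) : D.e1 (-x) = D.e1 x * j := by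
  have h : D.e1 (-x) = D.e1 x * D.e1 (-1) := by rw [← map_mul, mul_neg, mul_one]
  rwa [D.neg1] at h

theorem e2_neg (y : SL2 F₂) : D.e2 (-y) = D.e2 y * j := by
  have h : D.e2 (-y) = D.e2 y * D.e2 (-1) := by rw [← map_mul, mul_neg, mul_one]
  rwa [D.neg2] at h

theorem Y_j {g : G} (hg : g ∈ D.Y) : g * j = j * g := by
  obtain ⟨x, y, rfl⟩ := hg
  rw [mul_assoc, D.e2_j, ← mul_assoc, D.e1_j, mul_assoc]

theorem Y_le : D.Y ≤ Subgroup.centralizer ({j} : Set G) := by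
  intro g hg
  rw [Subgroup.mem_centralizer_singleton_iff]
  exact D.Y_j hg

theorem e1_e1_j {x y : SL2 F₁} : D.e1 x = D.e1 y * j ↔ x = -y := by
  rw [← e1_neg]; exact D.inj1.eq_iff

theorem e2_e2_j {x y : SL2 F₂} : D.e2 x = D.e2 y * j ↔ x = -y := by
  rw [← e2_neg]; exact D.inj2.eq_iff

end Duo

/-! ### facts on `SL₂` -/

section SL

variable {F : Type*} [Field F]

theorem sl_center {x : SL2 F} (h : ∀ y : SL2 F, x * y = y * x) : x = 1 ∨ x = -1 := by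
  obtain ⟨a, ha⟩ := scalar_of_comm (A := (x : M2 F)) (fun y => by
    have h := congrArg (fun z : SL2 F => (z : M2 F)) (h y)
    simpa using h)
  have hd := x.2
  rw [ha, det_smul2, Matrix.det_one, mul_one] at hd
  rcases mul_self_eq_one_iff.1 hd with h1 | h1
  · left
    apply Subtype.ext
    rw [ha, h1, one_smul]; rfl
  · right
    apply Subtype.ext
    rw [ha, h1, neg_smul, one_smul]; rfl

theorem sl_one_ne_neg (h2 : (2 : F) ≠ 0) : (1 : SL2 F) ≠ -1 :=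
  fun h => SLTwoFour.neg_one_ne_one h2 h.symm

end SL

namespace Duo

variable {G : Type*} [Group G] {j : G} {F₁ F₂ : Type*} [Field F₁] [Field F₂] (D : Duo j F₁ F₂)

theorem eq_cases {x : SL2 F₁} {y : SL2 F₂} (h : D.e1 x = D.e2 y) : (x = 1 ∧ y = 1) ∨ (x = -1 ∧ y = -1) := by
  have hx : x = 1 ∨ x = -1 := by
    apply sl_center
    intro z
    apply D.inj1
    rw [map_mul, map_mul, h]
    exact (D.comm _ _).symm
  rcases hx with hx | hx
  · left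
    refine ⟨hx, D.inj2 ?_⟩
    rw [← h, hx, map_one, map_one]
  · right
    refine ⟨hx, D.inj2 ?_⟩
    rw [← h, hx, D.neg1, D.neg2]

include D in
theorem inv_j : j⁻¹ = j := by
  rw [inv_eq_iff_mul_eq_one]; exact D.jj

/-- uniqueness of the coordinates -/
theorem mul_eq_mul {a a' : SL2 F₁} {b b' : SL2 F₂} (h : D.e1 a * D.e2 b = D.e1 a' * D.e2 b') :
    (a = a' ∧ b = b') ∨ (a = -a' ∧ b = -b') := by
  have h1 : D.e1 (a'⁻¹ * a) = D.e2 (b' * b⁻¹) := by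
    rw [map_mul, map_mul, map_inv, map_inv, inv_mul_eq_iff_eq_mul, ← mul_assoc, eq_mul_inv_iff_mul_eq]
    exact h
  rcases D.eq_cases h1 with ⟨h2, h3⟩ | ⟨h2, h3⟩
  · left
    exact ⟨(inv_mul_eq_one.1 h2).symm, (mul_inv_eq_one.1 h3).symm⟩
  · right
    constructor
    · rw [inv_mul_eq_iff_eq_mul] at h2
      rw [h2]; simp
    · rw [mul_inv_eq_iff_eq_mul] at h3
      rw [h3]; simp

theorem mul_eq_one {a : SL2 F₁} {b : SL2 F₂} (h : D.e1 a * D.e2 b = 1) : (a = 1 ∧ b = 1) ∨ (a = -1 ∧ b = -1) := by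
  have := D.mul_eq_mul (a := a) (b := b) (a' := 1) (b' := 1) (by simpa using h)
  simpa using this

theorem mul_eq_j {a : SL2 F₁} {b : SL2 F₂} (h : D.e1 a * D.e2 b = j) : (a = -1 ∧ b = 1) ∨ (a = 1 ∧ b = -1) := by
  have := D.mul_eq_mul (a := a) (b := b) (a' := -1) (b' := 1) (by rw [h, D.neg1]; simp)
  simpa using this

include D in
theorem j_ne_one (h2 : (2 : F₁) ≠ 0) : j ≠ 1 := by
  intro h
  have h1 : D.e1 (-1) = D.e1 1 := by rw [D.neg1, map_one]; exact h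
  exact sl_one_ne_neg h2 (D.inj1 h1).symm

/-- the square of an element of `L₁ L₂` is `1` -/
theorem sq_eq_one (h2 : (2 : F₁) ≠ 0) (h2' : (2 : F₂) ≠ 0) {a : SL2 F₁} {b : SL2 F₂}
    (h : (D.e1 a * D.e2 b) * (D.e1 a * D.e2 b) = 1) :
    D.e1 a * D.e2 b = 1 ∨ D.e1 a * D.e2 b = j ∨ (a * a = -1 ∧ b * b = -1) := by
  rw [mul_mul] at h
  rcases D.mul_eq_one h with ⟨h3, h4⟩ | ⟨h3, h4⟩
  · rcases SLTwoFour.eq_one_or_neg_one_of_mul_self h2 _ h3 with rfl | rfl <;>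
    rcases SLTwoFour.eq_one_or_neg_one_of_mul_self h2' _ h4 with rfl | rfl
    · left; simp
    · right; left; rw [map_one, one_mul, D.neg2]
    · right; left; rw [map_one, mul_one, D.neg1]
    · left; rw [D.neg1, D.neg2]; exact D.jj
  · exact Or.inr (Or.inr ⟨h3, h4⟩)

/-- all involutions of `L₁ L₂` different from `j` are conjugate in `L₁ L₂` -/
theorem conj_of_sq [Fintype F₁] [Fintype F₂] (h1 : Odd (Fintype.card F₁)) (h2 : Odd (Fintype.card F₂))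
    {a a' : SL2 F₁} {b b' : SL2 F₂} (ha : a * a = -1) (ha' : a' * a' = -1) (hb : b * b = -1) (hb' : b' * b' = -1) :
    ∃ g ∈ D.Y, g * (D.e1 a * D.e2 b) * g⁻¹ = D.e1 a' * D.e2 b' := by
  obtain ⟨x, hx⟩ := SLTwoFour.exists_conj_w h1 a ha
  obtain ⟨x', hx'⟩ := SLTwoFour.exists_conj_w h1 a' ha'
  obtain ⟨y, hy⟩ := SLTwoFour.exists_conj_w h2 b hb
  obtain ⟨y', hy'⟩ := SLTwoFour.exists_conj_w h2 b' hb'
  refine ⟨D.e1 (x' * x⁻¹) * D.e2 (y' * y⁻¹), ⟨_, _, rfl⟩, ?_⟩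
  rw [conj_conj]
  have e1 : x' * x⁻¹ * a * (x' * x⁻¹)⁻¹ = a' := by
    rw [← hx, ← hx']
    group
  have e2 : y' * y⁻¹ * b * (y' * y⁻¹)⁻¹ = b' := by
    rw [← hy, ← hy']
    group
  rw [e1, e2]

end Duo

/-! ### from subgroups to a `Duo` -/

section Mk

variable {G : Type*} [Group G] {F₁ F₂ : Type*} [Field F₁] [Field F₂]

/-- the `Duo` attached to two commuting subgroups -/
def mkDuo (h1 : (2 : F₁) ≠ 0) (h2 : (2 : F₂) ≠ 0) (L₁ L₂ : Subgroup G)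
    (e₁ : ↥L₁ ≃* SL2 F₁) (e₂ : ↥L₂ ≃* SL2 F₂)
    (hc : ∀ x ∈ L₁, ∀ y ∈ L₂, x * y = y * x) (j : G) (hj : orderOf j = 2) (hm : L₁ ⊓ L₂ = Subgroup.zpowers j) :
    Duo j F₁ F₂ where
  e1 := BridgeAct.emb L₁ e₁
  e2 := BridgeAct.emb L₂ e₂
  inj1 := BridgeAct.emb_inj L₁ e₁
  inj2 := BridgeAct.emb_inj L₂ e₂
  comm x y := hc _ (BridgeAct.emb_mem L₁ e₁ x) _ (BridgeAct.emb_mem L₂ e₂ y)
  neg1 := by
    have hmem : j ∈ L₁ ⊓ L₂ := by rw [hm]; exact mem_zpowers j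
    exact BridgeAct.emb_neg_one L₁ e₁ h1 hmem.1 (by rw [← pow_two, ← hj]; exact pow_orderOf_eq_one j)
      (fun h => by rw [h, orderOf_one] at hj; omega)
  neg2 := by
    have hmem : j ∈ L₁ ⊓ L₂ := by rw [hm]; exact mem_zpowers j
    exact BridgeAct.emb_neg_one L₂ e₂ h2 hmem.2 (by rw [← pow_two, ← hj]; exact pow_orderOf_eq_one j)
      (fun h => by rw [h, orderOf_one] at hj; omega)

theorem range_emb {F : Type*} [Field F] (L : Subgroup G) (e : ↥L ≃* SL2 F) : (BridgeAct.emb L e).range = L := by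
  apply le_antisymm
  · rintro _ ⟨x, rfl⟩
    exact BridgeAct.emb_mem L e x
  · intro y hy
    obtain ⟨x, hx⟩ := BridgeAct.exists_emb L e hy
    exact ⟨x, hx⟩

theorem Y_mkDuo (h1 : (2 : F₁) ≠ 0) (h2 : (2 : F₂) ≠ 0) (L₁ L₂ : Subgroup G)
    (e₁ : ↥L₁ ≃* SL2 F₁) (e₂ : ↥L₂ ≃* SL2 F₂)
    (hc : ∀ x ∈ L₁, ∀ y ∈ L₂, x * y = y * x) (j : G) (hj : orderOf j = 2) (hm : L₁ ⊓ L₂ = Subgroup.zpowers j) :
    (mkDuo h1 h2 L₁ L₂ e₁ e₂ hc j hj hm).Y = L₁ ⊔ L₂ := by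
  rw [Duo.Y_eq]
  change (BridgeAct.emb L₁ e₁).range ⊔ (BridgeAct.emb L₂ e₂).range = _
  rw [range_emb, range_emb]

end Mk

end Cfsg.Agent.H311
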