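import Cfsg.Agent.H217.Odm.Real_m3
import Cfsg.Agent.H109.NrCo
import Cfsg.Agent.CoOneType.Thirteen
import Cfsg.Agent.CoOneType.ClosingFacts
import Cfsg.Agent.CoOneType.CoOneE
import Cfsg.Agent.H661.SporConway
import Cfsg.Agent.H603.SporElim
import Cfsg.Agent.Prune
set_option linter.all false
prune_inst 0x7f00000000000000000000000000000000000000000000000000000000000000000000000000000000000000000000000000000000000000000000000000000000000000000000000000000000000000003fffffffffffffffffffffffffffbeffbdffffffff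
open scoped Cfsg.Agent.FastGrp

/-!
# S4785 (TEAM ODDM): the row of `Co1` (helper311)
-/

set_option autoImplicit false

namespace Cfsg.Agent.H311.OdmRowCo1

open Cfsg Subgroup
open Cfsg.Agent.H453.OddM Cfsg.Agent.H217.Odm

universe u

/-- normalizer and centralizer of a subgroup of prime order -/
theorem exists_e {G : Type*} [Group G] [Finite G] {r c : ℕ} (hr : r.Prime) {x : G} (hx : orderOf x = r)
    (hc : Nat.card (centralizer ({x} : Set G)) = r * c) :
    ∃ e, e ∣ r - 1 ∧ Nat.card (normalizer ((zpowers x : Subgroup G) : Set G)) = r * c * e := by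
  set P : Subgroup G := zpowers x with hP
  have hPc : Nat.card P = r := by rw [hP, Nat.card_zpowers, hx]
  have hr' : Fact r.Prime := ⟨hr⟩
  have hCP : centralizer ({x} : Set G) = centralizer (P : Set G) := by
    rw [hP, zpowers_eq_closure, centralizer_closure]
  let φ : normalizer (P : Set G) →* MulAut P := P.normalizerMonoidHom
  have hker : Nat.card φ.ker = r * c := by
    rw [show φ.ker = _ from P.normalizerMonoidHom_ker, ← hc, hCP]
    exact Nat.card_congr (Subgroup.subgroupOfEquivOfLe (centralizer_le_normalizer _)).toEquiv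
  have hcard : Nat.card (normalizer (P : Set G)) = r * c * Nat.card φ.range := by
    rw [← hker, ← Subgroup.card_mul_index φ.ker, Subgroup.index_ker]
  have hcyc : IsCyclic P := isCyclic_of_prime_card hPc
  have haut : Nat.card (MulAut P) = r - 1 := by
    rw [IsCyclic.card_mulAut, hPc, Nat.totient_prime hr]
  exact ⟨Nat.card φ.range, by rw [← haut]; exact Subgroup.card_subgroup_dvd_card _, hcard⟩

theorem exists_cent_even : ∃ x : Spor.Co1, orderOf x = 13 ∧ 2 ∣ Nat.card (centralizer ({x} : Set Spor.Co1)) := by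
  have hc : Nat.card Spor.Co1 = 4157776806543360000 := NotCT.Orders.co1 ⟨MulEquiv.refl _⟩
  have hfin : Finite Spor.Co1 := Nat.finite_of_card_ne_zero (by rw [hc]; norm_num)
  have : Fact (Nat.Prime 13) := ⟨by norm_num⟩
  have : Fact (Nat.Prime 2) := ⟨by norm_num⟩
  obtain ⟨x, hx⟩ := exists_prime_orderOf_dvd_card' 13 CoOneType.Thirteen.thirteen_dvd
  refine ⟨x, by rw [Subgroup.orderOf_coe, hx], ?_⟩
  set b : Spor.Co1 := CoOneType.ClosingFacts.mk CoOneType.Thirteen.b0 with hb
  have hbx : b ∈ centralizer ({(x : Spor.Co1)} : Set Spor.Co1) := by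
    rw [mem_centralizer_singleton_iff]
    have h0 := mem_centralizer_singleton_iff.1 x.2
    exact h0.symm
  have hb2 : orderOf b = 2 := by
    refine orderOf_eq_prime ?_ ?_
    · have h1 : b ^ 2 = CoOneType.ClosingFacts.mk (CoOneType.Thirteen.b0 * CoOneType.Thirteen.b0) := by
        rw [pow_two]; rfl
      rw [h1, CoOneType.Thirteen.b0_sq, CoOneType.ClosingFacts.mk_eq_one]
      exact Or.inr rfl
    · intro h
      have h1 : CoOneType.ClosingFacts.mk CoOneType.Thirteen.b0 = 1 := h
      rw [CoOneType.ClosingFacts.mk_eq_one] at h1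
      have h2 := CoOneType.Thirteen.b0_sq
      rcases h1 with h1 | h1
      · rw [h1, one_mul] at h2
        exact CoOneType.CoOneE.allOne_ne h2.symm
      · rw [h1] at h2
        have h3 : SporadicA.Co0Mono.signCo0 SporadicA.Co1Simple.allOne = 1 := by
          have := congrArg (fun z => z * (SporadicA.Co0Mono.signCo0 SporadicA.Co1Simple.allOne)⁻¹) h2
          simpa using this
        exact CoOneType.CoOneE.allOne_ne h3
  have h4 := orderOf_dvd_natCard (⟨b, hbx⟩ : centralizer ({(x : Spor.Co1)} : Set Spor.Co1))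
  rwa [Subgroup.orderOf_mk, hb2] at h4

theorem cent_data {G : Type*} [Group G] [Finite G] (e : G ≃* Spor.Co1) {z : G} (hz : orderOf z = 13) :
    ∃ c, Nat.card (centralizer ({z} : Set G)) = 13 * c ∧ 2 ∣ c ∧ c ∣ 216 := by
  have hc : Nat.card Spor.Co1 = 4157776806543360000 := NotCT.Orders.co1 ⟨MulEquiv.refl _⟩
  have hcG : Nat.card G = 13 * 319828985118720000 := by rw [Nat.card_congr e.toEquiv, hc]
  obtain ⟨x, hx, h2⟩ := exists_cent_even
  have h1 := H109.Nr.Co.card_cent_co1 (s := e z) (by rw [MulEquiv.orderOf_eq, hz])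
  rw [OdmTools.card_cent_map] at h1
  have h3 : 2 ∣ Nat.card (centralizer ({z} : Set G)) := by
    rw [OdmTools.card_cent_eq (x := e.symm x) (by norm_num) hcG (by norm_num) (by rw [MulEquiv.orderOf_eq, hx]) hz,
      OdmTools.card_cent_map]
    exact h2
  have h4 : 13 ∣ Nat.card (centralizer ({z} : Set G)) := by
    have h5 : z ∈ centralizer ({z} : Set G) := mem_centralizer_singleton_iff.2 rfl
    have h6 := orderOf_dvd_natCard (⟨z, h5⟩ : centralizer ({z} : Set G))
    rwa [Subgroup.orderOf_mk, hz] at h6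
  obtain ⟨c, hc⟩ := h4
  rw [hc] at h1 h3
  refine ⟨c, hc, ?_, ?_⟩
  · exact (Nat.Coprime.dvd_of_dvd_mul_left (by norm_num) h3)
  · have h5 : 26 * c ∣ 26 * 216 := by
      have : 26 * c = 2 * (13 * c) := by ring
      rw [this]; exact h1
    exact Nat.dvd_of_mul_dvd_mul_left (by norm_num) h5

theorem norm_data {G : Type*} [Group G] [Finite G] (e : G ≃* Spor.Co1) {z : G} (hz : orderOf z = 13) :
    Nat.card (normalizer ((zpowers z : Subgroup G) : Set G)) = 13 * 144 ∧ IsReal z := by
  have hc : Nat.card Spor.Co1 = 4157776806543360000 := NotCT.Orders.co1 ⟨MulEquiv.refl _⟩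
  have hcG : Nat.card G = 13 * 319828985118720000 := by rw [Nat.card_congr e.toEquiv, hc]
  obtain ⟨c, h1, h2, h3⟩ := cent_data e hz
  obtain ⟨a, ha, hN⟩ := exists_e (by norm_num) hz h1
  have hc0 : 0 < c := Nat.pos_of_ne_zero (by rintro rfl; norm_num at h3)
  have key : ∀ c ∈ Nat.divisors 216, ∀ a ∈ Nat.divisors 12, 2 ∣ c → ∀ b < 13, (c * b) % 13 = 1 →
      c * a = c * b → c * b = 144 ∧ Even b := by decide +kernel
  have hcm : c ∈ Nat.divisors 216 := Nat.mem_divisors.2 ⟨h3, by norm_num⟩
  have ham : a ∈ Nat.divisors 12 := Nat.mem_divisors.2 ⟨ha, by norm_num⟩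
  have hb : ∃ b < 13, (c * b) % 13 = 1 := by
    have key2 : ∀ c ∈ Nat.divisors 216, ∃ b < 13, (c * b) % 13 = 1 := by decide +kernel
    exact key2 c hcm
  obtain ⟨b, hb1, hb2⟩ := hb
  obtain ⟨h4, h5⟩ := norm_of_cent (e := b) (by norm_num) hcG (by norm_num) hz h1 hb1 (by rw [hb2])
  have h6 : c * a = c * b := by
    rw [hN, mul_assoc] at h4
    exact Nat.eq_of_mul_eq_mul_left (by norm_num) h4
  obtain ⟨h7, h8⟩ := key c hcm a ham h2 b hb1 hb2 h6
  exact ⟨by rw [h4, h7], h5 h8⟩

theorem row (tab : Cfsg.Agent.OrdDiv.OrderTable.{u}) (known : Cfsg.Agent.H257.El.Known.{u}) {T : Type u}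
    [Group T] (h : Cfsg.Spor.IsoCo1 T) : Cfsg.Agent.H453.OddM.Row T := by
  have hc := NotCT.Orders.co1 h
  have hfin : Finite T := Nat.finite_of_card_ne_zero (by rw [hc]; norm_num)
  obtain ⟨e⟩ := h
  have : Fact (Nat.Prime 13) := ⟨by norm_num⟩
  refine row_of_two (n := 4157776806543360000)
    (l := [(2, 21), (3, 9), (5, 4), (7, 2), (11, 1), (13, 1), (23, 1)]) (r := 13)
    (nu := 144) (ss := [11]) tab known hc (by norm_num) ?_ ?_ ?_ (by decide +kernel)
  · obtain ⟨x, hx⟩ := exists_prime_orderOf_dvd_card' (G := T) 13 (by rw [hc]; norm_num)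
    exact ⟨x, hx, (norm_data e hx).2⟩
  · intro z hz
    exact (norm_data e hz).1
  · intro s hs
    simp only [List.mem_singleton] at hs
    subst hs
    refine ⟨by norm_num, OdmTools.RealP.congr e.symm (OdmTools.realP_of_hasReal H661.Spor.Eleven.hasReal_co1),
      OdmTools.no_mul (by norm_num) (by norm_num) fun z hz => ?_⟩
    obtain ⟨c, h1, -, h3⟩ := cent_data e hz
    rw [h1]
    intro hd
    have h4 : 11 ∣ c := Nat.Coprime.dvd_of_dvd_mul_left (by norm_num) hd
    exact absurd (h4.trans h3) (by norm_num)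

end Cfsg.Agent.H311.OdmRowCo1
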