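import Cfsg.Agent.H311.DuoKS
import Cfsg.Agent.GTwoOdd.TrZero
import Cfsg.Agent.GTwoOdd.Core.SylX
import Cfsg.Agent.S1335
import Cfsg.Agent.S0215
import Cfsg.Agent.PLocal.CoprimeLift
import Cfsg.Agent.Lib.Cores
import Cfsg.Agent.SylowSp4.ExtTransfer
import Mathlib.GroupTheory.Transfer
set_option linter.all false

-- part: H311/FactE
section
/-!
# Fusion of the central involution of a `Duo`, when the Sylow `2`-subgroup is contained in `L₁ L₂`
-/

set_option autoImplicit false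

namespace Cfsg.Agent.H311

open Matrix Subgroup Cfsg.Agent.GTwoOdd Cfsg.Agent.ClassicalGeometry

/-- elements of `2`-power order -/
def IsTwo {G : Type*} [Monoid G] (x : G) : Prop := ∃ n : ℕ, x ^ 2 ^ n = 1

section SL

variable {F : Type*} [Field F]

/-- an element anticommuting with some element has square `-1` -/
theorem sl_anti (h2 : (2 : F) ≠ 0) {r a : SL2 F} (h : r * a = -(a * r)) : r * r = -1 := by
  apply SLTwoFour.mul_self_of_trace
  have h1 : (r : M2 F) * (a : M2 F) = -((a : M2 F) * (r : M2 F)) := by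
    have := congrArg (fun z : SL2 F => (z : M2 F)) h
    simpa using this
  have h3 := trace_of_anti h2 (N := (r : M2 F)) (D := (a : M2 F)) (by rw [a.2]; exact one_ne_zero) h1
  rw [Matrix.trace_fin_two] at h3
  exact h3

theorem sl_neg_pow (n : ℕ) : (-1 : SL2 F) ^ 2 ^ n = 1 ∨ (-1 : SL2 F) ^ 2 ^ n = -1 := by
  cases n with
  | zero => right; simp
  | succ n => left; rw [pow_succ, pow_mul', neg_one_sq, one_pow]

theorem sl_ne_of_sq (h2 : (2 : F) ≠ 0) {a : SL2 F} (ha : a * a = -1) : a ≠ 1 ∧ a ≠ -1 := by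
  constructor
  · rintro rfl
    rw [mul_one] at ha
    exact sl_one_ne_neg h2 ha
  · rintro rfl
    apply sl_one_ne_neg h2
    rw [← ha]; simp

/-- the `2`-part of the centralizer of `a` -/
theorem exists_two_gen [Fintype F] (h2 : (2 : F) ≠ 0) (a : SL2 F) (ha : a * a = -1) :
    ∃ m : ℕ, 1 ≤ m ∧ (∃ z : SL2 F, z * a = a * z ∧ z ^ 2 ^ m = -1) ∧
      ∀ r : SL2 F, r * a = a * r → IsTwo r → r ^ 2 ^ m = 1 ∨ r ^ 2 ^ m = -1 := by
  classical
  let P : ℕ → Prop := fun n => ∃ z : SL2 F, z * a = a * z ∧ z ^ 2 ^ n = -1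
  have hb : ∀ n, P n → n ≤ Nat.card (SL2 F) := by
    rintro n ⟨z, -, hz⟩
    have h1 : z ^ 2 ^ (n + 1) = 1 := by rw [pow_succ, pow_mul, hz]; simp
    have h3 : orderOf z = 2 ^ (n + 1) := by
      apply orderOf_eq_prime_pow _ h1
      rw [hz]; exact (sl_one_ne_neg h2).symm
    have h4 : orderOf z ∣ Nat.card (SL2 F) := orderOf_dvd_natCard z
    rw [h3] at h4
    have h5 := Nat.le_of_dvd Nat.card_pos h4
    have h6 : n + 1 < 2 ^ (n + 1) := Nat.lt_two_pow_self
    omega
  have hP1 : P 1 := ⟨a, rfl, by rw [pow_one, pow_two, ha]⟩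
  let m := Nat.findGreatest P (Nat.card (SL2 F))
  have hm1 : 1 ≤ m := Nat.le_findGreatest (hb 1 hP1) hP1
  have hmP : P m := Nat.findGreatest_spec (hb 1 hP1) hP1
  have hmax : ∀ n, P n → n ≤ m := fun n hn => Nat.le_findGreatest (hb n hn) hn
  refine ⟨m, hm1, hmP, ?_⟩
  rintro r hra ⟨n, hn⟩
  induction n with
  | zero =>
    left
    rw [pow_zero, pow_one] at hn
    rw [hn, one_pow]
  | succ n ih =>
    have h1 : r ^ 2 ^ n * r ^ 2 ^ n = 1 := by rw [← pow_add, ← two_mul, ← pow_succ']; exact hn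
    rcases SLTwoFour.eq_one_or_neg_one_of_mul_self h2 _ h1 with h | h
    · exact ih h
    · have h3 : n ≤ m := hmax n ⟨r, hra, h⟩
      have h4 : r ^ 2 ^ m = (-1) ^ 2 ^ (m - n) := by
        rw [← h, ← pow_mul, ← pow_add, Nat.add_sub_cancel' h3]
      rw [h4]
      exact sl_neg_pow _

end SL

/-- a `2`-group from its elements -/
theorem isPGroup_of_isTwo {G : Type*} [Group G] (P : Subgroup G) (h : ∀ x ∈ P, IsTwo x) : IsPGroup 2 P := by
  intro ⟨x, hx⟩
  obtain ⟨n, hn⟩ := h x hx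
  exact ⟨n, Subtype.ext hn⟩

theorem isTwo_of_isPGroup {G : Type*} [Group G] {P : Subgroup G} (hP : IsPGroup 2 P) {x : G} (hx : x ∈ P) : IsTwo x := by
  obtain ⟨n, hn⟩ := hP ⟨x, hx⟩
  exact ⟨n, congrArg Subtype.val hn⟩

theorem IsTwo.map {G H : Type*} [Monoid G] [Monoid H] (f : G →* H) {x : G} (hx : IsTwo x) : IsTwo (f x) := by
  obtain ⟨n, hn⟩ := hx
  exact ⟨n, by rw [← map_pow, hn, map_one]⟩

theorem IsTwo.conj {G : Type*} [Group G] {x : G} (hx : IsTwo x) (g : G) : IsTwo (g * x * g⁻¹) :=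
  hx.map (MulAut.conj g).toMonoidHom

theorem isTwo_of_sq {G : Type*} [Monoid G] {x : G} (hx : x * x = 1) : IsTwo x := ⟨1, by rw [pow_one, pow_two, hx]⟩

theorem isTwo_of_mul {G : Type*} [Monoid G] {x y : G} (h : x * y = y * x) (hx : IsTwo x) (hy : IsTwo y) : IsTwo (x * y) := by
  obtain ⟨n, hn⟩ := hx
  obtain ⟨m, hm⟩ := hy
  refine ⟨n + m, ?_⟩
  rw [(show Commute x y from h).mul_pow, pow_add, pow_mul, hn, one_pow, mul_comm (2 ^ n), pow_mul, hm, one_pow, one_mul]

/-- Sylow subgroups above a given `2`-subgroup, stable under a normalizing element up to the group -/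
theorem exists_sylow_stable {G : Type*} [Group G] [Finite G] (C P : Subgroup G) (hP : IsPGroup 2 P) (hPC : P ≤ C) :
    ∃ S : Subgroup G, P ≤ S ∧ S ≤ C ∧ IsPGroup 2 S ∧
      ∀ σ : G, (∀ c ∈ C, σ * c * σ⁻¹ ∈ C) → ∃ c ∈ C, ∀ s ∈ S, (c * σ) * s * (c * σ)⁻¹ ∈ S := by
  classical
  have hP' : IsPGroup 2 (P.subgroupOf C) := hP.comap_of_injective C.subtype C.subtype_injective
  obtain ⟨Q, hQ⟩ := hP'.exists_le_sylow
  refine ⟨(Q : Subgroup C).map C.subtype, ?_, ?_, Q.2.map _, ?_⟩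
  · intro x hx
    exact ⟨⟨x, hPC hx⟩, hQ hx, rfl⟩
  · rintro _ ⟨x, -, rfl⟩
    exact x.2
  · intro σ hσ
    -- conjugation by `σ` is an automorphism of `C`
    let φ : C →* C :=
      { toFun := fun c => ⟨σ * c * σ⁻¹, hσ c c.2⟩
        map_one' := by apply Subtype.ext; simp
        map_mul' := by
          intro a b
          apply Subtype.ext
          change σ * (a * b) * σ⁻¹ = (σ * a * σ⁻¹) * (σ * b * σ⁻¹)
          group }
    have hφ : Function.Injective φ := by
      intro a b hab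
      have h1 : σ * a * σ⁻¹ = σ * b * σ⁻¹ := congrArg Subtype.val hab
      apply Subtype.ext
      exact mul_left_cancel (mul_right_cancel h1)
    let ψ : C ≃* C := MulEquiv.ofBijective φ ⟨hφ, Finite.surjective_of_injective hφ⟩
    have hQ' : IsPGroup 2 ((Q : Subgroup C).map ψ.toMonoidHom) := Q.2.map _
    obtain ⟨Q', hQQ'⟩ := hQ'.exists_le_sylow
    obtain ⟨c, hc⟩ := MulAction.exists_smul_eq C Q' Q
    refine ⟨c, c.2, ?_⟩
    rintro _ ⟨s, hs, rfl⟩
    have h1 : ψ s ∈ Q' := hQQ' ⟨s, hs, rfl⟩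
    have h2 : c * ψ s * c⁻¹ ∈ Q := by
      rw [← hc]
      exact ⟨ψ s, h1, rfl⟩
    refine ⟨_, h2, ?_⟩
    change (c : G) * (σ * s * σ⁻¹) * (c : G)⁻¹ = _
    change _ = (c : G) * σ * (s : G) * ((c : G) * σ)⁻¹
    group

namespace Duo

variable {G : Type*} [Group G] {j : G} {F₁ F₂ : Type*} [Field F₁] [Field F₂] (D : Duo j F₁ F₂)

/-- the `2`-part of the centralizer of an element of the first factor -/
def P1 (a : SL2 F₁) (ha : a ≠ 1) (ha' : a ≠ -1) : Subgroup G where
  carrier := {g | ∃ r : SL2 F₁, r * a = a * r ∧ IsTwo r ∧ D.e1 r = g}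
  mul_mem' := by
    rintro _ _ ⟨r, h1, h2, rfl⟩ ⟨s, h3, h4, rfl⟩
    have hrs : r * s = s * r := sl_comm_of_comm ha ha' h1 h3
    refine ⟨r * s, ?_, isTwo_of_mul hrs h2 h4, map_mul _ _ _⟩
    rw [mul_assoc, h3, ← mul_assoc, h1, mul_assoc]
  one_mem' := ⟨1, by simp, ⟨0, by simp⟩, map_one _⟩
  inv_mem' := by
    rintro _ ⟨r, h1, ⟨n, hn⟩, rfl⟩
    refine ⟨r⁻¹, ?_, ⟨n, by rw [inv_pow, hn, inv_one]⟩, map_inv _ _⟩
    rw [inv_mul_eq_iff_eq_mul, ← mul_assoc, h1, mul_inv_cancel_right]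

theorem P1_isPGroup (a : SL2 F₁) (ha : a ≠ 1) (ha' : a ≠ -1) : IsPGroup 2 (D.P1 a ha ha') := by
  apply isPGroup_of_isTwo
  rintro _ ⟨r, -, h, rfl⟩
  exact h.map _

/-- commuting up to sign -/
theorem comm_cases {r a : SL2 F₁} {r' b : SL2 F₂}
    (h : (D.e1 r * D.e2 r') * (D.e1 a * D.e2 b) = (D.e1 a * D.e2 b) * (D.e1 r * D.e2 r')) :
    (r * a = a * r ∧ r' * b = b * r') ∨ (r * a = -(a * r) ∧ r' * b = -(b * r')) := by
  rw [mul_mul, mul_mul] at h
  exact D.mul_eq_mul h

/-- **Fact E**: if the `2`-elements of `C_K(j)` are in `L₁ L₂`, then `j` is not conjugate to another element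
of `L₁ L₂`. -/
theorem factE [Finite G] [Fintype F₁] [Fintype F₂] (h1 : Odd (Fintype.card F₁)) (h2 : Odd (Fintype.card F₂))
    (K : Subgroup G) [K.Normal] (hK : ∀ y ∈ D.Y, IsTwo y → y ∈ K)
    (hC : ∀ c ∈ K, c * j = j * c → IsTwo c → c ∈ D.Y) (g : G) (hg : g * j * g⁻¹ ∈ D.Y) :
    g * j * g⁻¹ = j := by
  by_contra hne
  have t1 := SLTwoFour.two_ne_zero_of_odd (F := F₁) h1
  have t2 := SLTwoFour.two_ne_zero_of_odd (F := F₂) h2
  have hjj : j * j = 1 := D.jj
  have hj1 : j ≠ 1 := D.j_ne_one t1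
  have hjK : j ∈ K := hK j D.j_mem (isTwo_of_sq hjj)
  -- involutions of `Y`
  have hinv : ∀ y ∈ D.Y, y * y = 1 → y ≠ 1 → y ≠ j → ∃ a b, D.e1 a * D.e2 b = y ∧ a * a = -1 ∧ b * b = -1 := by
    rintro _ ⟨a, b, rfl⟩ h3 h4 h5
    rcases D.sq_eq_one t1 t2 h3 with h | h | h
    · exact absurd h h4
    · exact absurd h h5
    · exact ⟨a, b, rfl, h⟩
  have hxx : (g * j * g⁻¹) * (g * j * g⁻¹) = 1 := by
    have : (g * j * g⁻¹) * (g * j * g⁻¹) = g * (j * j) * g⁻¹ := by group
    rw [this, hjj]; group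
  have hx1 : g * j * g⁻¹ ≠ 1 := by
    intro h
    apply hj1
    have : j = g⁻¹ * (g * j * g⁻¹) * g := by group
    rw [this, h]; group
  obtain ⟨a, b, hab, ha, hb⟩ := hinv _ hg hxx hx1 hne
  -- the element `x' = g⁻¹ j g`
  have hx'c : (g⁻¹ * j * g) * j = j * (g⁻¹ * j * g) := by
    have h3 := D.Y_j hg
    have e1 : (g⁻¹ * j * g) * j = g⁻¹ * (j * (g * j * g⁻¹)) * g := by group
    have e2 : j * (g⁻¹ * j * g) = g⁻¹ * ((g * j * g⁻¹) * j) * g := by group
    rw [e1, e2, h3]
  have hx'x' : (g⁻¹ * j * g) * (g⁻¹ * j * g) = 1 := by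
    have : (g⁻¹ * j * g) * (g⁻¹ * j * g) = g⁻¹ * (j * j) * g := by group
    rw [this, hjj]; group
  have hx'K : g⁻¹ * j * g ∈ K := by
    have := ‹K.Normal›.conj_mem j hjK g⁻¹
    rwa [inv_inv] at this
  have hx'Y : g⁻¹ * j * g ∈ D.Y := hC _ hx'K hx'c (isTwo_of_sq hx'x')
  have hx'1 : g⁻¹ * j * g ≠ 1 := by
    intro h
    apply hj1
    have : j = g * (g⁻¹ * j * g) * g⁻¹ := by group
    rw [this, h]; group
  have hx'j : g⁻¹ * j * g ≠ j := by
    intro h
    apply hne
    have : g * j * g⁻¹ = g * (g⁻¹ * j * g) * g⁻¹ := by rw [h]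
    rw [this]; group
  obtain ⟨a', b', hab', ha', hb'⟩ := hinv _ hx'Y hx'x' hx'1 hx'j
  obtain ⟨y, hyY, hy⟩ := D.conj_of_sq h1 h2 ha' ha hb' hb
  rw [hab, hab'] at hy
  -- the swap
  set x := g * j * g⁻¹ with hx
  have hyj : y * j = j * y := D.Y_j hyY
  have s1 : (g * y⁻¹) * j * (g * y⁻¹)⁻¹ = x := by
    have : (g * y⁻¹) * j * (g * y⁻¹)⁻¹ = g * (y⁻¹ * (j * y)) * g⁻¹ := by group
    rw [this, ← hyj, inv_mul_cancel_left]
  have s2 : (g * y⁻¹) * x * (g * y⁻¹)⁻¹ = j := by
    rw [← hy]; group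
  set σ := g * y⁻¹ with hσ
  have hcomm : x * j = j * x := D.Y_j hg
  -- the centralizer of `⟨j, x⟩` in `K`
  let C : Subgroup G := K ⊓ (centralizer {j} ⊓ centralizer {x})
  have hCm : ∀ c, c ∈ C ↔ c ∈ K ∧ c * j = j * c ∧ c * x = x * c := by
    intro c
    change c ∈ K ∧ c ∈ centralizer {j} ∧ c ∈ centralizer {x} ↔ _
    rw [mem_centralizer_singleton_iff, mem_centralizer_singleton_iff]
  have hσC : ∀ c ∈ C, σ * c * σ⁻¹ ∈ C := by
    intro c hc
    obtain ⟨c1, c2, c3⟩ := (hCm c).1 hc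
    rw [hCm]
    refine ⟨‹K.Normal›.conj_mem c c1 σ, ?_, ?_⟩
    · rw [← s2]
      have e1 : σ * c * σ⁻¹ * (σ * x * σ⁻¹) = σ * (c * x) * σ⁻¹ := by group
      have e2 : σ * x * σ⁻¹ * (σ * c * σ⁻¹) = σ * (x * c) * σ⁻¹ := by group
      rw [e1, e2, c3]
    · rw [← s1]
      have e1 : σ * c * σ⁻¹ * (σ * j * σ⁻¹) = σ * (c * j) * σ⁻¹ := by group
      have e2 : σ * j * σ⁻¹ * (σ * c * σ⁻¹) = σ * (j * c) * σ⁻¹ := by group
      rw [e1, e2, c2]
  obtain ⟨na, na'⟩ := sl_ne_of_sq t1 ha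
  have hPC : D.P1 a na na' ≤ C := by
    rintro _ ⟨r, hr, hr2, rfl⟩
    rw [hCm]
    refine ⟨hK _ (D.e1_mem r) (hr2.map _), D.e1_j r, ?_⟩
    rw [← hab, ← mul_assoc, ← map_mul, hr, map_mul, mul_assoc, mul_assoc, D.comm]
  obtain ⟨S, hPS, hSC, hS2, hS⟩ := exists_sylow_stable C _ (D.P1_isPGroup a na na') hPC
  obtain ⟨c, hcC, hcS⟩ := hS σ hσC
  obtain ⟨m, hm1, ⟨z, hz, hzm⟩, hmax⟩ := exists_two_gen t1 a ha
  have hz2 : IsTwo z := ⟨m + 1, by rw [pow_succ, pow_mul, hzm]; simp⟩
  have hzS : D.e1 z ∈ S := hPS ⟨z, hz, hz2, rfl⟩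
  have hs := hcS _ hzS
  obtain ⟨-, c2, c3⟩ := (hCm c).1 hcC
  have hsx : ((c * σ) * D.e1 z * (c * σ)⁻¹) ^ 2 ^ m = x := by
    have e1 : ((c * σ) * D.e1 z * (c * σ)⁻¹) ^ 2 ^ m = (c * σ) * (D.e1 z) ^ 2 ^ m * (c * σ)⁻¹ := by
      exact conj_pow
    rw [e1, ← map_pow, hzm, D.neg1]
    have e2 : c * σ * j * (c * σ)⁻¹ = c * (σ * j * σ⁻¹) * c⁻¹ := by group
    rw [e2, s1, c3, mul_inv_cancel_right]
  generalize hs' : (c * σ) * D.e1 z * (c * σ)⁻¹ = s at hs hsx
  obtain ⟨k1, k2, k3⟩ := (hCm s).1 (hSC hs)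
  have hsY : s ∈ D.Y := hC s k1 k2 (isTwo_of_isPGroup hS2 hs)
  obtain ⟨r, r', hrr'⟩ := hsY
  rw [← hrr', ← hab] at k3
  rcases D.comm_cases k3 with ⟨h3, h4⟩ | ⟨h3, h4⟩
  · rw [← hrr', (show Commute (D.e1 r) (D.e2 r') from D.comm _ _).mul_pow, ← map_pow, ← map_pow, ← hab] at hsx
    have h5 : r ^ 2 ^ m = a ∨ r ^ 2 ^ m = -a := by
      rcases D.mul_eq_mul hsx with h | h
      · exact Or.inl h.1
      · exact Or.inr h.1
    have h6 : IsTwo r := by
      refine ⟨m + 2, ?_⟩
      have : r ^ 2 ^ (m + 2) = (r ^ 2 ^ m * r ^ 2 ^ m) * (r ^ 2 ^ m * r ^ 2 ^ m) := by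
        rw [← pow_add, ← pow_add]
        congr 1
        ring
      rw [this]
      rcases h5 with h5 | h5 <;> rw [h5] <;> simp [ha]
    rcases hmax r h3 h6 with h7 | h7 <;> rcases h5 with h8 | h8
    · exact na (by rw [← h8, h7])
    · exact na' (by rw [← neg_eq_iff_eq_neg, ← h8, h7])
    · exact na' (by rw [← h8, h7])
    · exact na (by rw [← neg_inj, ← h8, h7])
  · have h5 := sl_anti t1 h3
    have h6 := sl_anti t2 h4
    have h7 : s * s = 1 := by
      rw [← hrr', mul_mul, h5, h6, D.neg1, D.neg2, hjj]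
    obtain ⟨l, rfl⟩ : ∃ l, m = l + 1 := ⟨m - 1, by omega⟩
    apply hx1
    rw [← hsx, pow_succ', pow_mul, pow_two, h7, one_pow]

end Duo

end Cfsg.Agent.H311
end

-- part: H311/TwoCent
section
/-!
# The central involution of a `Duo` is `2`-central; the `Z*`-theorem
-/

set_option autoImplicit false

namespace Cfsg.Agent.H311

open Matrix Subgroup Cfsg.Agent.GTwoOdd Cfsg.Agent.ClassicalGeometry

/-- The `Z*`-theorem, centralizer form. -/
theorem zstar_form {G : Type*} [Group G] [Finite G] (P : Sylow 2 G) (j : G) (hj : orderOf j = 2) (hjP : j ∈ P)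
    (hiso : ∀ g : G, g * j * g⁻¹ ∈ P → g * j * g⁻¹ = j) :
    Subgroup.centralizer ({j} : Set G) ⊔ Cfsg.oddCore G = ⊤ := by
  obtain ⟨N, hN, hodd, hcomm⟩ := Cfsg.Agent.S0215.result P j hj hjP hiso
  have hP : IsPGroup 2 (zpowers j) := IsPGroup.of_card (n := 1) (by rw [Nat.card_zpowers, hj, pow_one])
  have h1 := PLocal.CoprimeLift.map_centralizer_mk N (zpowers j) (Nat.coprime_two_right.2 hodd) hP
  have hle : N ≤ Cfsg.oddCore G := Lib.Cores.le_pPrimeCore hN (Nat.coprime_two_right.2 hodd)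
  rw [eq_top_iff]
  intro g _
  have h2 : QuotientGroup.mk' N g ∈ centralizer ((zpowers j).map (QuotientGroup.mk' N) : Set (G ⧸ N)) := by
    rw [mem_centralizer_iff]
    rintro _ ⟨x, hx, rfl⟩
    obtain ⟨k, rfl⟩ := mem_zpowers_iff.1 hx
    have h3 : Commute (QuotientGroup.mk' N j) (QuotientGroup.mk' N g) := by
      change QuotientGroup.mk' N j * QuotientGroup.mk' N g = QuotientGroup.mk' N g * QuotientGroup.mk' N j
      rw [← map_mul, ← map_mul]
      have h4 := hcomm g
      have h5 : (QuotientGroup.mk' N) (j * g * j⁻¹ * g⁻¹) = 1 := (QuotientGroup.eq_one_iff _).2 h4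
      rw [map_mul, map_mul, map_mul, map_inv, map_inv] at h5
      rw [map_mul, map_mul]
      exact mul_inv_eq_iff_eq_mul.1 (mul_inv_eq_one.1 h5)
    rw [map_zpow]
    exact h3.zpow_left k
  rw [← h1] at h2
  obtain ⟨c, hc, hcg⟩ := h2
  have h3 : c⁻¹ * g ∈ N := QuotientGroup.eq.1 hcg
  have h4 : g = c * (c⁻¹ * g) := by group
  rw [h4]
  refine mul_mem (mem_sup_left ?_) (mem_sup_right (hle h3))
  rw [mem_centralizer_singleton_iff]
  exact (mem_centralizer_iff.1 hc j (mem_zpowers j)).symm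

section SL

variable {F : Type*} [Field F] [Finite F]

/-- every Sylow `2`-subgroup of `SL₂` contains an anticommuting pair -/
theorem sl_sylow_pair (h2 : (2 : F) ≠ 0) (P : Sylow 2 (SL2 F)) :
    ∃ x n : SL2 F, x ∈ P ∧ n ∈ P ∧ x * x = -1 ∧ n * x = -(x * n) := by
  obtain ⟨x, n, h3, h4, h5, h6, -⟩ := Core.exists_side (t := (-1 : SL2 F)) h2 (MonoidHom.id (SL2 F)) Function.injective_id rfl
    (fun c => by simp) (fun c x => ⟨c * x * c⁻¹, by simp⟩) P
  exact ⟨x, n, h3, h4, h5, h6⟩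

end SL

namespace Duo

variable {G : Type*} [Group G] {j : G} {F₁ F₂ : Type*} [Field F₁] [Field F₂] (D : Duo j F₁ F₂)

/-- the product of two subgroups of the factors -/
def pr (A : Subgroup (SL2 F₁)) (B : Subgroup (SL2 F₂)) : Subgroup G where
  carrier := {g | ∃ x ∈ A, ∃ y ∈ B, D.e1 x * D.e2 y = g}
  mul_mem' := by
    rintro _ _ ⟨x, hx, y, hy, rfl⟩ ⟨x', hx', y', hy', rfl⟩
    exact ⟨x * x', mul_mem hx hx', y * y', mul_mem hy hy', (D.mul_mul _ _ _ _).symm⟩
  one_mem' := ⟨1, one_mem _, 1, one_mem _, by simp⟩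
  inv_mem' := by
    rintro _ ⟨x, hx, y, hy, rfl⟩
    exact ⟨x⁻¹, inv_mem hx, y⁻¹, inv_mem hy, (D.mul_inv _ _).symm⟩

theorem pr_le (A : Subgroup (SL2 F₁)) (B : Subgroup (SL2 F₂)) : D.pr A B ≤ D.Y := by
  rintro _ ⟨x, -, y, -, rfl⟩
  exact ⟨x, y, rfl⟩

theorem isTwo_mul {x : SL2 F₁} {y : SL2 F₂} (hx : IsTwo x) (hy : IsTwo y) : IsTwo (D.e1 x * D.e2 y) :=
  isTwo_of_mul (D.comm x y) (hx.map _) (hy.map _)

theorem pr_isPGroup {A : Subgroup (SL2 F₁)} {B : Subgroup (SL2 F₂)} (hA : IsPGroup 2 A) (hB : IsPGroup 2 B) :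
    IsPGroup 2 (D.pr A B) := by
  apply isPGroup_of_isTwo
  rintro _ ⟨x, hx, y, hy, rfl⟩
  exact D.isTwo_mul (isTwo_of_isPGroup hA hx) (isTwo_of_isPGroup hB hy)

/-- The hypotheses on `C(j)`: `L₁ L₂` is normal, and `2`-subgroups of `C(j)` meet it in subgroups of index at
most `2`. -/
structure Half : Prop where
  norm : ∀ c, c * j = j * c → ∀ y ∈ D.Y, c * y * c⁻¹ ∈ D.Y
  half : ∀ T : Subgroup G, IsPGroup 2 T → (∀ t ∈ T, t * j = j * t) →
    ∀ a ∈ T, ∀ b ∈ T, a ∉ D.Y → b ∉ D.Y → a * b ∈ D.Y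

variable {D}

theorem Half.comm_mem (H : D.Half) {T : Subgroup G} (hT : IsPGroup 2 T) (hTj : ∀ t ∈ T, t * j = j * t) {a b : G}
    (ha : a ∈ T) (hb : b ∈ T) : a * b * a⁻¹ * b⁻¹ ∈ D.Y := by
  by_cases hbY : b ∈ D.Y
  · exact mul_mem (H.norm a (hTj a ha) b hbY) (inv_mem hbY)
  by_cases haY : a ∈ D.Y
  · have := mul_mem haY (H.norm b (hTj b hb) _ (inv_mem haY))
    have e : a * b * a⁻¹ * b⁻¹ = a * (b * a⁻¹ * b⁻¹) := by group
    rw [e]; exact this
  have h1 := H.half T hT hTj a ha b hb haY hbY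
  have h2 := H.half T hT hTj b hb a ha hbY haY
  have e : a * b * a⁻¹ * b⁻¹ = (a * b) * (b * a)⁻¹ := by group
  rw [e]; exact mul_mem h1 (inv_mem h2)

/-- an element of `Y` commuting with two anticommuting pairs -/
theorem eq_of_comm_pairs (D : Duo j F₁ F₂) (t1 : (2 : F₁) ≠ 0) (t2 : (2 : F₂) ≠ 0) {x n : SL2 F₁} {x' n' : SL2 F₂}
    (_hx : x * x = -1) (hn : n * x = -(x * n)) (_hx' : x' * x' = -1) (hn' : n' * x' = -(x' * n')) {z : G}
    (hz : z ∈ D.Y) (h1 : z * D.e1 x = D.e1 x * z) (h2 : z * D.e1 n = D.e1 n * z) (h3 : z * D.e2 x' = D.e2 x' * z)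
    (h4 : z * D.e2 n' = D.e2 n' * z) : z = 1 ∨ z = j := by
  obtain ⟨a, b, rfl⟩ := hz
  have c1 : ∀ y, D.e1 a * D.e2 b * D.e1 y = D.e1 y * (D.e1 a * D.e2 b) → a * y = y * a := by
    intro y hy
    apply D.inj1
    rw [map_mul, map_mul]
    rw [mul_assoc, ← D.comm, ← mul_assoc, ← mul_assoc] at hy
    exact mul_right_cancel hy
  have c2 : ∀ y, D.e1 a * D.e2 b * D.e2 y = D.e2 y * (D.e1 a * D.e2 b) → b * y = y * b := by
    intro y hy
    apply D.inj2
    rw [map_mul, map_mul]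
    rw [mul_assoc, ← mul_assoc (D.e2 y), ← D.comm, mul_assoc] at hy
    exact mul_left_cancel hy
  have ha : a = 1 ∨ a = -1 := by
    by_contra hcon
    push Not at hcon
    have h5 := sl_comm_of_comm hcon.1 hcon.2 (c1 n h2).symm (c1 x h1).symm
    have h6 : x * n = -(x * n) := by rw [← hn, h5]
    have h7 : (1 : SL2 F₁) = -1 := by
      have : (x * n) * (x * n)⁻¹ = -(x * n) * (x * n)⁻¹ := by rw [← h6]
      simpa using this
    exact sl_one_ne_neg t1 h7
  have hb : b = 1 ∨ b = -1 := by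
    by_contra hcon
    push Not at hcon
    have h5 := sl_comm_of_comm hcon.1 hcon.2 (c2 n' h4).symm (c2 x' h3).symm
    have h6 : x' * n' = -(x' * n') := by rw [← hn', h5]
    have h7 : (1 : SL2 F₂) = -1 := by
      have : (x' * n') * (x' * n')⁻¹ = -(x' * n') * (x' * n')⁻¹ := by rw [← h6]
      simpa using this
    exact sl_one_ne_neg t2 h7
  rcases ha with rfl | rfl <;> rcases hb with rfl | rfl
  · left; simp
  · right; rw [map_one, one_mul, D.neg2]
  · right; rw [map_one, mul_one, D.neg1]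
  · left; rw [D.neg1, D.neg2, D.jj]

/-- `j` is `2`-central -/
theorem Half.two_central [Finite G] [Finite F₁] [Finite F₂] (H : D.Half) (t1 : (2 : F₁) ≠ 0) (t2 : (2 : F₂) ≠ 0)
    (Q : Subgroup G) (hQ : IsPGroup 2 Q) (hQj : ∀ q ∈ Q, q * j = j * q) :
    ∃ S : Sylow 2 G, (∀ s ∈ S, s * j = j * s) ∧ Q ≤ S := by
  classical
  obtain ⟨P₁⟩ : Nonempty (Sylow 2 (SL2 F₁)) := inferInstance
  obtain ⟨P₂⟩ : Nonempty (Sylow 2 (SL2 F₂)) := inferInstance
  obtain ⟨x, n, hx, hn, hxx, hnx⟩ := sl_sylow_pair t1 P₁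
  obtain ⟨x', n', hx', hn', hxx', hnx'⟩ := sl_sylow_pair t2 P₂
  have hmem : ∀ c, c ∈ centralizer ({j} : Set G) ↔ c * j = j * c := fun c => mem_centralizer_singleton_iff
  have hT0 : IsPGroup 2 ((D.pr (P₁ : Subgroup (SL2 F₁)) P₂).subgroupOf (centralizer ({j} : Set G))) :=
    (D.pr_isPGroup P₁.2 P₂.2).comap_of_injective _ (subtype_injective _)
  obtain ⟨T, hT⟩ := hT0.exists_le_sylow
  have hTle : D.pr (P₁ : Subgroup (SL2 F₁)) P₂ ≤ (T : Subgroup (centralizer ({j} : Set G))).map (centralizer ({j} : Set G)).subtype := by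
    intro y hy
    have hyc : y ∈ centralizer ({j} : Set G) := D.Y_le (D.pr_le _ _ hy)
    exact ⟨⟨y, hyc⟩, hT hy, rfl⟩
  have hTj : ∀ t ∈ (T : Subgroup (centralizer ({j} : Set G))).map (centralizer ({j} : Set G)).subtype, t * j = j * t := by
    rintro _ ⟨t, -, rfl⟩
    exact (hmem _).1 t.2
  have hTp : IsPGroup 2 ((T : Subgroup (centralizer ({j} : Set G))).map (centralizer ({j} : Set G)).subtype) := T.2.map _
  have m1 : D.e1 x ∈ (T : Subgroup (centralizer ({j} : Set G))).map (centralizer ({j} : Set G)).subtype :=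
    hTle ⟨x, hx, 1, one_mem _, by simp⟩
  have m2 : D.e1 n ∈ (T : Subgroup (centralizer ({j} : Set G))).map (centralizer ({j} : Set G)).subtype :=
    hTle ⟨n, hn, 1, one_mem _, by simp⟩
  have m3 : D.e2 x' ∈ (T : Subgroup (centralizer ({j} : Set G))).map (centralizer ({j} : Set G)).subtype :=
    hTle ⟨1, one_mem _, x', hx', by simp⟩
  have m4 : D.e2 n' ∈ (T : Subgroup (centralizer ({j} : Set G))).map (centralizer ({j} : Set G)).subtype :=
    hTle ⟨1, one_mem _, n', hn', by simp⟩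
  have hjT : j ∈ (T : Subgroup (centralizer ({j} : Set G))).map (centralizer ({j} : Set G)).subtype := by
    have := mul_mem m1 m1
    rwa [← map_mul, hxx, D.neg1] at this
  have hjne : j ≠ 1 := D.j_ne_one t1
  -- `T` is a Sylow subgroup of `G`
  obtain ⟨S, hS⟩ := S1335.sylow_of_normalizer_le (centralizer ({j} : Set G)) T (by
    intro g hg
    rw [hmem]
    have hg1 : ∀ y ∈ (T : Subgroup (centralizer ({j} : Set G))).map (centralizer ({j} : Set G)).subtype,
        g * y * g⁻¹ ∈ (T : Subgroup (centralizer ({j} : Set G))).map (centralizer ({j} : Set G)).subtype :=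
      fun y hy => (mem_normalizer_iff.1 hg y).1 hy
    have hg2 : ∀ y ∈ (T : Subgroup (centralizer ({j} : Set G))).map (centralizer ({j} : Set G)).subtype,
        g⁻¹ * y * g ∈ (T : Subgroup (centralizer ({j} : Set G))).map (centralizer ({j} : Set G)).subtype := by
      intro y hy
      apply (mem_normalizer_iff.1 hg _).2
      have : g * (g⁻¹ * y * g) * g⁻¹ = y := by group
      rw [this]; exact hy
    have hjc : j = D.e1 x * D.e1 n * (D.e1 x)⁻¹ * (D.e1 n)⁻¹ := by
      rw [← map_mul, ← map_inv, ← map_inv, ← map_mul, ← map_mul]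
      have h1 : x * n = -(n * x) := by rw [hnx, neg_neg]
      have h2 : x * n * x⁻¹ * n⁻¹ = -1 := by rw [h1]; simp
      rw [h2, D.neg1]
    have hY : g * j * g⁻¹ ∈ D.Y := by
      have h1 := H.comm_mem hTp hTj (hg1 _ m1) (hg1 _ m2)
      have e : g * D.e1 x * g⁻¹ * (g * D.e1 n * g⁻¹) * (g * D.e1 x * g⁻¹)⁻¹ * (g * D.e1 n * g⁻¹)⁻¹ =
          g * (D.e1 x * D.e1 n * (D.e1 x)⁻¹ * (D.e1 n)⁻¹) * g⁻¹ := by group
      rw [e, ← hjc] at h1
      exact h1
    have hcen : ∀ y ∈ (T : Subgroup (centralizer ({j} : Set G))).map (centralizer ({j} : Set G)).subtype,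
        (g * j * g⁻¹) * y = y * (g * j * g⁻¹) := by
      intro y hy
      have h1 := hTj _ (hg2 y hy)
      have e1 : (g * j * g⁻¹) * y = g * (j * (g⁻¹ * y * g)) * g⁻¹ := by group
      have e2 : y * (g * j * g⁻¹) = g * ((g⁻¹ * y * g) * j) * g⁻¹ := by group
      rw [e1, e2, h1]
    rcases eq_of_comm_pairs D t1 t2 hxx hnx hxx' hnx' hY (hcen _ m1) (hcen _ m2) (hcen _ m3) (hcen _ m4) with h | h
    · exfalso
      apply hjne
      have : j = g⁻¹ * (g * j * g⁻¹) * g := by group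
      rw [this, h]; group
    · exact mul_inv_eq_iff_eq_mul.1 h)
  -- conjugate of `T` containing `Q`
  have hQ0 : IsPGroup 2 (Q.subgroupOf (centralizer ({j} : Set G))) := hQ.comap_of_injective _ (subtype_injective _)
  obtain ⟨T', hT'⟩ := hQ0.exists_le_sylow
  have hcard : Nat.card ((T' : Subgroup (centralizer ({j} : Set G))).map (centralizer ({j} : Set G)).subtype) =
      2 ^ (Nat.card G).factorization 2 := by
    rw [Subgroup.card_map_of_injective (subtype_injective _), ← S.card_eq_multiplicity, hS,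
      Subgroup.card_map_of_injective (subtype_injective _)]
    rw [T'.card_eq_multiplicity, T.card_eq_multiplicity]
  refine ⟨Sylow.ofCard _ hcard, ?_, ?_⟩
  · intro s hs
    have hs' : s ∈ (T' : Subgroup (centralizer ({j} : Set G))).map (centralizer ({j} : Set G)).subtype := hs
    obtain ⟨t, -, rfl⟩ := hs'
    exact (hmem _).1 t.2
  · intro q hq
    change q ∈ (T' : Subgroup (centralizer ({j} : Set G))).map (centralizer ({j} : Set G)).subtype
    exact ⟨⟨q, (hmem q).2 (hQj q hq)⟩, hT' hq, rfl⟩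

end Duo

end Cfsg.Agent.H311
end

-- part: H311/ExtTrans
section
/-!
# Extremal transfer for elements of `2`-power order

`exists_extremal`: `S` a Sylow `2`-subgroup, `M` of index two in `S`, `x` an element of `2`-power order,
all of whose proper `2`-powers have all their `G`-conjugates in `S` inside `M`.  If every homomorphism
`G → {±1}` kills `x`, then for every `2`-subgroup `R` of `C_G(x)` some conjugation maps `x` into `M` and
`R` into `S`.
-/

set_option autoImplicit false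

namespace Cfsg.Agent.H311.ExtTrans

open MulAction Subgroup

/-- The sign homomorphism attached to a subgroup of index two. -/
theorem exists_sign {S : Type*} [Group S] (K : Subgroup S) (hK : K.index = 2) :
    ∃ f : S →* ℤˣ, ∀ x, (x ∈ K → f x = 1) ∧ (x ∉ K → f x = -1) := by
  classical
  refine ⟨{ toFun := fun x => if x ∈ K then 1 else -1
            map_one' := by simp [K.one_mem]
            map_mul' := ?_ }, ?_⟩
  · intro a b
    have h := Subgroup.mul_mem_iff_of_index_two hK (a := a) (b := b)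
    by_cases ha : a ∈ K <;> by_cases hb : b ∈ K <;> simp_all
  · intro x
    constructor
    · intro hx
      simp [hx]
    · intro hx
      simp [hx]

/-- **Extremal transfer.** -/
theorem exists_extremal {G : Type*} [Group G] [Finite G] (S : Sylow 2 G) (M : Subgroup G)
    (hMS : M ≤ (S : Subgroup G)) (hM : M.relIndex (S : Subgroup G) = 2) (x : G) (n : ℕ)
    (hxn : x ^ 2 ^ n = 1)
    (hpow : ∀ k, ∀ g : G, g * x ^ 2 ^ (k + 1) * g⁻¹ ∈ S → g * x ^ 2 ^ (k + 1) * g⁻¹ ∈ M)
    (hG : ∀ f : G →* ℤˣ, f x = 1) (R : Subgroup G) (hR : IsPGroup 2 R)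
    (hRx : ∀ r ∈ R, r * x = x * r) :
    ∃ g : G, g * x * g⁻¹ ∈ M ∧ ∀ r ∈ R, g * r * g⁻¹ ∈ S := by
  classical
  by_contra hcon
  push Not at hcon
  obtain ⟨f, hf⟩ := exists_sign (M.subgroupOf (S : Subgroup G)) hM
  have hfS : ∀ (y : G) (hy : y ∈ (S : Subgroup G)), (y ∈ M → f ⟨y, hy⟩ = 1) ∧ (y ∉ M → f ⟨y, hy⟩ = -1) := by
    intro y hy
    have := hf ⟨y, hy⟩
    simpa [Subgroup.mem_subgroupOf] using this
  have hMn : (M.subgroupOf (S : Subgroup G)).Normal := Subgroup.normal_of_index_eq_two hM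
  have hMS' : ∀ s ∈ (S : Subgroup G), ∀ t ∈ M, s⁻¹ * t * s ∈ M := by
    intro s hs t ht
    have h := hMn.conj_mem ⟨t, hMS ht⟩ ht ⟨s⁻¹, (S : Subgroup G).inv_mem hs⟩
    have h1 : s⁻¹ * t * (s⁻¹)⁻¹ ∈ M := h
    rwa [inv_inv] at h1
  have : Fintype (G ⧸ (S : Subgroup G)) := Fintype.ofFinite _
  have : Fintype (Quotient (orbitRel (zpowers x) (G ⧸ (S : Subgroup G)))) := Fintype.ofFinite _
  -- the predicate
  let P : G ⧸ (S : Subgroup G) → Prop := fun q => ∃ g : G, (g : G ⧸ (S : Subgroup G)) = q ∧ g⁻¹ * x * g ∈ M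
  have hPm : ∀ g : G, P ((g : G) : G ⧸ (S : Subgroup G)) ↔ g⁻¹ * x * g ∈ M := by
    intro g
    constructor
    · rintro ⟨g', hg', hg'T⟩
      have h1 := QuotientGroup.eq.1 hg'
      have h2 := hMS' _ h1 _ hg'T
      have e : (g'⁻¹ * g)⁻¹ * (g'⁻¹ * x * g') * (g'⁻¹ * g) = g⁻¹ * x * g := by group
      rwa [e] at h2
    · intro h
      exact ⟨g, rfl, h⟩
  have hPfix : ∀ q, P q → x • q = q := by
    intro q hq
    obtain ⟨g, rfl⟩ := QuotientGroup.mk_surjective q
    exact (SylowSp4.ExtTransfer.smul_coe_eq_iff (S : Subgroup G) x g).2 (hMS ((hPm g).1 hq))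
  have hperiod : ∀ q : G ⧸ (S : Subgroup G), ∃ k, Function.minimalPeriod (x • ·) q = 2 ^ k := by
    intro q
    have h1 : Function.minimalPeriod (x • ·) q ∣ 2 ^ n := by
      apply Function.IsPeriodicPt.minimalPeriod_dvd
      unfold Function.IsPeriodicPt Function.IsFixedPt
      rw [smul_iterate, hxn]
      exact one_smul G q
    obtain ⟨k, _, hk⟩ := (Nat.dvd_prime_pow Nat.prime_two).1 h1
    exact ⟨k, hk⟩
  have hper1 : ∀ q : G ⧸ (S : Subgroup G), Function.minimalPeriod (x • ·) q = 1 ↔ x • q = q := by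
    intro q
    rw [Function.minimalPeriod_eq_one_iff_isFixedPt]
    rfl
  -- the number of fixed points is odd
  have hodd : Odd (Nat.card (G ⧸ (S : Subgroup G))) := by
    rw [← Subgroup.index_eq_card, ← Nat.not_even_iff_odd, even_iff_two_dvd]
    exact S.not_dvd_index
  have hX : Odd (Finset.univ.filter (fun q : G ⧸ (S : Subgroup G) => x • q = q)).card := by
    have hZ : IsPGroup 2 (zpowers x) := by
      intro g
      obtain ⟨g, hg⟩ := g
      obtain ⟨k, rfl⟩ := mem_zpowers_iff.1 hg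
      refine ⟨n, Subtype.ext ?_⟩
      change (x ^ k) ^ 2 ^ n = 1
      rw [← zpow_natCast, ← zpow_mul, mul_comm, zpow_mul, zpow_natCast, hxn, one_zpow]
    have hmod := hZ.card_modEq_card_fixedPoints (G ⧸ (S : Subgroup G))
    have h1 : Nat.card (fixedPoints (zpowers x) (G ⧸ (S : Subgroup G))) =
        (Finset.univ.filter (fun q : G ⧸ (S : Subgroup G) => x • q = q)).card := by
      rw [← Fintype.card_subtype, ← Nat.card_eq_fintype_card]
      apply Nat.card_congr
      apply Equiv.subtypeEquivRight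
      intro q
      constructor
      · intro h
        exact h ⟨x, mem_zpowers x⟩
      · rintro h ⟨y, hy⟩
        obtain ⟨k, rfl⟩ := mem_zpowers_iff.1 hy
        change x ^ k • q = q
        have h2 : x ∈ stabilizer G q := h
        exact zpow_mem h2 k
    rw [h1] at hmod
    rw [Nat.odd_iff] at hodd ⊢
    exact (show _ % 2 = _ % 2 from hmod.symm).trans hodd
  -- the number of points with `P` is even
  have hF2 : Even (Finset.univ.filter P).card := by
    let A : SubMulAction R (G ⧸ (S : Subgroup G)) :=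
      { carrier := {q | P q}
        smul_mem' := by
          intro r q hq
          obtain ⟨g, rfl⟩ := QuotientGroup.mk_surjective q
          have h1 := (hPm g).1 hq
          have h2 : ((r : G) * g)⁻¹ * x * ((r : G) * g) ∈ M := by
            have e : ((r : G) * g)⁻¹ * x * ((r : G) * g) = g⁻¹ * ((r : G)⁻¹ * (x * r)) * g := by
              group
            rw [e, ← hRx r r.2, inv_mul_cancel_left]
            exact h1
          exact (hPm ((r : G) * g)).2 h2 }
    have hmod := hR.card_modEq_card_fixedPoints A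
    have hempty : IsEmpty (MulAction.fixedPoints R A) := by
      constructor
      rintro ⟨⟨q, hq⟩, hfix⟩
      obtain ⟨g, rfl⟩ := QuotientGroup.mk_surjective q
      obtain ⟨r, hr, hrS⟩ := hcon g⁻¹ (by rw [inv_inv]; exact (hPm g).1 hq)
      apply hrS
      rw [inv_inv]
      exact (SylowSp4.ExtTransfer.smul_coe_eq_iff (S : Subgroup G) r g).1 (congrArg Subtype.val (hfix ⟨r, hr⟩))
    have h0 : Nat.card (MulAction.fixedPoints R A) = 0 := Nat.card_of_isEmpty
    rw [h0] at hmod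
    have h1 : Nat.card A = (Finset.univ.filter P).card := by
      have : Nat.card A = Nat.card {q // P q} := rfl
      rw [this, Nat.card_eq_fintype_card, Fintype.card_subtype]
    rw [h1] at hmod
    exact even_iff_two_dvd.2 (Nat.modEq_zero_iff_dvd.1 hmod)
  have hsplit : Odd (Finset.univ.filter (fun q : G ⧸ (S : Subgroup G) => x • q = q ∧ ¬ P q)).card := by
    have h1 : (Finset.univ.filter (fun q : G ⧸ (S : Subgroup G) => x • q = q)).card =
        (Finset.univ.filter P).card +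
          (Finset.univ.filter (fun q : G ⧸ (S : Subgroup G) => x • q = q ∧ ¬ P q)).card := by
      rw [← Finset.card_union_of_disjoint]
      · congr 1
        ext q
        simp only [Finset.mem_filter, Finset.mem_univ, true_and, Finset.mem_union]
        constructor
        · intro h
          by_cases hp : P q
          · exact Or.inl hp
          · exact Or.inr ⟨h, hp⟩
        · rintro (h | h)
          · exact hPfix q h
          · exact h.1
      · rw [Finset.disjoint_left]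
        intro q hq hq'
        simp only [Finset.mem_filter, Finset.mem_univ, true_and] at hq hq'
        exact hq'.2 hq
    rw [h1] at hX
    obtain ⟨a, ha⟩ := hF2
    rw [Nat.odd_iff] at hX ⊢
    omega
  have hcard : Odd (Finset.univ.filter (fun q : Quotient (orbitRel (zpowers x) (G ⧸ (S : Subgroup G))) =>
      Function.minimalPeriod (x • ·) q.out = 1 ∧ ¬ P q.out)).card := by
    have h1 : (Finset.univ.filter (fun q : Quotient (orbitRel (zpowers x) (G ⧸ (S : Subgroup G))) =>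
        Function.minimalPeriod (x • ·) q.out = 1 ∧ ¬ P q.out)).card =
        (Finset.univ.filter (fun q : G ⧸ (S : Subgroup G) => x • q = q ∧ ¬ P q)).card := by
      refine Finset.card_bij (fun q _ => q.out) ?_ ?_ ?_
      · intro q hq
        simp only [Finset.mem_filter, Finset.mem_univ, true_and] at hq ⊢
        exact ⟨(hper1 _).1 hq.1, hq.2⟩
      · intro a _ b _ hab
        exact Quotient.out_injective hab
      · intro q hq
        simp only [Finset.mem_filter, Finset.mem_univ, true_and] at hq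
        let c : Quotient (orbitRel (zpowers x) (G ⧸ (S : Subgroup G))) := Quotient.mk _ q
        have hc : c.out = q := by
          have h2 : (orbitRel (zpowers x) (G ⧸ (S : Subgroup G))) c.out q := Quotient.mk_out q
          rw [orbitRel_apply] at h2
          obtain ⟨⟨y, hy⟩, h3⟩ := h2
          rw [← h3]
          obtain ⟨k, rfl⟩ := mem_zpowers_iff.1 hy
          change x ^ k • q = q
          have h4 : x ∈ stabilizer G q := hq.1
          exact zpow_mem h4 k
        refine ⟨c, ?_, hc⟩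
        simp only [Finset.mem_filter, Finset.mem_univ, true_and]
        rw [hc]
        exact ⟨(hper1 q).2 hq.1, hq.2⟩
    rw [h1]
    exact hsplit
  have htr : MonoidHom.transfer f x = -1 := by
    rw [MonoidHom.transfer_eq_prod_quotient_orbitRel_zpowers_quot]
    have h3 : ∀ q : Quotient (orbitRel (zpowers x) (G ⧸ (S : Subgroup G))),
        f ⟨q.out.out⁻¹ * x ^ Function.minimalPeriod (x • ·) q.out * q.out.out,
            QuotientGroup.out_conj_pow_minimalPeriod_mem (S : Subgroup G) x q.out⟩ =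
          if Function.minimalPeriod (x • ·) q.out = 1 ∧ ¬ P q.out then -1 else 1 := by
      intro q
      have hmem := QuotientGroup.out_conj_pow_minimalPeriod_mem (S : Subgroup G) x q.out
      obtain ⟨k, hk⟩ := hperiod q.out
      have hPq : P q.out ↔ q.out.out⁻¹ * x * q.out.out ∈ M := by
        conv_lhs => rw [← Quotient.out_eq q.out]
        exact hPm q.out.out
      split_ifs with h
      · apply (hfS _ hmem).2
        rw [h.1, pow_one]
        exact fun h' => h.2 (hPq.2 h')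
      · apply (hfS _ hmem).1
        rcases Nat.eq_zero_or_pos k with rfl | hk0
        · rw [hk, pow_zero, pow_one]
          by_contra hnm
          exact h ⟨by rw [hk, pow_zero], fun h' => hnm (hPq.1 h')⟩
        · obtain ⟨l, rfl⟩ := Nat.exists_eq_succ_of_ne_zero hk0.ne'
          have := hpow l (q.out.out⁻¹)
          rw [inv_inv] at this
          rw [hk] at hmem ⊢
          exact this hmem
    rw [Finset.prod_congr rfl (fun q _ => h3 q), ← Finset.prod_filter, Finset.prod_const, hcard.neg_one_pow]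
  have h5 := hG (MonoidHom.transfer f)
  rw [htr] at h5
  exact absurd h5 (by decide)

end Cfsg.Agent.H311.ExtTrans
end

-- part: H311/SwapJ
section
/-!
# A `2`-element `n` with `n² = j` exchanging the two factors
-/

set_option autoImplicit false

namespace Cfsg.Agent.H311

open Matrix Subgroup Cfsg.Agent.GTwoOdd Cfsg.Agent.ClassicalGeometry

theorem isPGroup_zpowers {G : Type*} [Group G] {x : G} (hx : IsTwo x) : IsPGroup 2 (zpowers x) := by
  obtain ⟨n, hn⟩ := hx
  apply isPGroup_of_isTwo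
  intro y hy
  obtain ⟨k, rfl⟩ := mem_zpowers_iff.1 hy
  refine ⟨n, ?_⟩
  rw [← zpow_natCast, ← _root_.zpow_mul, mul_comm, _root_.zpow_mul, zpow_natCast, hn, _root_.one_zpow]

/-- `2`-elements of a subgroup containing a Sylow `2`-subgroup of the group -/
theorem conj_into {G : Type*} [Group G] [Finite G] {C : Subgroup G} (S : Sylow 2 G) (hS : (S : Subgroup G) ≤ C) {x : G}
    (hx : x ∈ C) (hx2 : IsTwo x) : ∃ c ∈ C, c * x * c⁻¹ ∈ S := by
  have hp : IsPGroup 2 (zpowers (⟨x, hx⟩ : C)) := by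
    apply isPGroup_zpowers
    obtain ⟨n, hn⟩ := hx2
    exact ⟨n, Subtype.ext hn⟩
  obtain ⟨Q, hQ⟩ := hp.exists_le_sylow
  obtain ⟨c, hc⟩ := MulAction.exists_smul_eq C Q (S.subtype hS)
  refine ⟨c, c.2, ?_⟩
  have h1 : (⟨x, hx⟩ : C) ∈ Q := hQ (mem_zpowers _)
  have h2 : c * (⟨x, hx⟩ : C) * c⁻¹ ∈ (S.subtype hS) := by
    rw [← hc]
    exact ⟨_, h1, rfl⟩
  exact h2

namespace Duo

variable {G : Type*} [Group G] {j : G} {F₁ F₂ : Type*} [Field F₁] [Field F₂] {D : Duo j F₁ F₂}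

/-- homomorphisms into `{1,-1}` kill `Y` -/
theorem hom_Y [Fintype F₁] [Fintype F₂] (D : Duo j F₁ F₂) (h1 : Odd (Fintype.card F₁)) (h2 : Odd (Fintype.card F₂))
    {P : Type*} [Group P] (hP : IsPGroup 2 P) (f : G →* P) {y : G} (hy : y ∈ D.Y) : f y = 1 := by
  obtain ⟨a, b, rfl⟩ := hy
  have e1 := Cfsg.Agent.TwoFusion.SLTwoFacts.hom_eq_one h1 hP (f.comp D.e1) a
  have e2 := Cfsg.Agent.TwoFusion.SLTwoFacts.hom_eq_one h2 hP (f.comp D.e2) b
  change f (D.e1 a) = 1 at e1
  change f (D.e2 b) = 1 at e2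
  rw [map_mul, e1, e2, one_mul]

theorem isPGroup_units : IsPGroup 2 ℤˣ := by
  intro x
  refine ⟨1, ?_⟩
  rw [pow_one]
  exact Int.units_sq x

/-- **the case `n² = j`** -/
theorem swap_j [Finite G] [Fintype F₁] [Fintype F₂] (H : D.Half) (h1 : Odd (Fintype.card F₁))
    (h2 : Odd (Fintype.card F₂)) (n : G) (hnn : n * n = j) (hsw : ∀ x, ∃ y, n * D.e1 x * n⁻¹ = D.e2 y)
    (hsw' : ∀ y, ∃ x, n * D.e2 y * n⁻¹ = D.e1 x) (hnY : n ∉ D.Y) : 
    Subgroup.centralizer ({j} : Set G) ⊔ Cfsg.oddCore G = ⊤ := by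
  classical
  have t1 := SLTwoFour.two_ne_zero_of_odd (F := F₁) h1
  have t2 := SLTwoFour.two_ne_zero_of_odd (F := F₂) h2
  have hjj : j * j = 1 := D.jj
  have hj1 : j ≠ 1 := D.j_ne_one t1
  have hnj : n * j = j * n := by rw [← hnn, mul_assoc]
  have hn4 : n ^ 2 ^ 2 = 1 := by
    rw [show (2 : ℕ) ^ 2 = 2 * 2 from rfl, pow_mul, pow_two, pow_two, hnn, hjj]
  have hn2 : IsTwo n := ⟨2, hn4⟩
  -- the exchange
  have hθ : ∀ x, ∃ y, n * D.e1 x * n⁻¹ = D.e2 y ∧ n * D.e2 y * n⁻¹ = D.e1 x := by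
    intro x
    obtain ⟨y, hy⟩ := hsw x
    refine ⟨y, hy, ?_⟩
    rw [← hy]
    have e : n * (n * D.e1 x * n⁻¹) * n⁻¹ = (n * n) * D.e1 x * (n * n)⁻¹ := by group
    rw [e, hnn, ← D.e1_j, mul_inv_cancel_right]
  have hθ' : ∀ y, ∃ x, n * D.e1 x * n⁻¹ = D.e2 y ∧ n * D.e2 y * n⁻¹ = D.e1 x := by
    intro y
    obtain ⟨x, hx⟩ := hsw' y
    refine ⟨x, ?_, hx⟩
    rw [← hx]
    have e : n * (n * D.e2 y * n⁻¹) * n⁻¹ = (n * n) * D.e2 y * (n * n)⁻¹ := by group
    rw [e, hnn, ← D.e2_j, mul_inv_cancel_right]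
  -- no involution in `n Y`
  have hno : ∀ y ∈ D.Y, (n * y) * (n * y) ≠ 1 := by
    rintro _ ⟨a, b, rfl⟩ hcon
    obtain ⟨a', ha1, ha2⟩ := hθ a
    obtain ⟨b', hb1, hb2⟩ := hθ' b
    have hinv : n⁻¹ = n * j := by
      rw [inv_eq_iff_mul_eq_one, ← mul_assoc, hnn, hjj]
    have e1 : n⁻¹ * (D.e1 a * D.e2 b) * n = D.e1 b' * D.e2 a' := by
      have e3 : n⁻¹ * (D.e1 a * D.e2 b) * n = (n⁻¹ * D.e1 a * n) * (n⁻¹ * D.e2 b * n) := by group
      rw [e3, ← ha2, ← hb1, D.comm]
      group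
    have e2 : (n * (D.e1 a * D.e2 b)) * (n * (D.e1 a * D.e2 b)) =
        (n * n) * (n⁻¹ * (D.e1 a * D.e2 b) * n) * (D.e1 a * D.e2 b) := by group
    rw [e2, e1, hnn, mul_assoc, D.mul_mul] at hcon
    have h3 : D.e1 (b' * a) * D.e2 (a' * b) = j := by
      have : D.e1 (b' * a) * D.e2 (a' * b) = j * (j * (D.e1 (b' * a) * D.e2 (a' * b))) := by
        rw [← mul_assoc, hjj, one_mul]
      rw [this, hcon, mul_one]
    -- the relation between `b'` and `b`
    have key : ∀ c, D.e1 b' = D.e1 c → n * D.e1 c * n⁻¹ = D.e2 b := by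
      intro c hc; rw [← hc, hb1]
    rcases D.mul_eq_j h3 with ⟨h4, h5⟩ | ⟨h4, h5⟩
    · have hb'' : b' = -a⁻¹ := by rw [← mul_inv_eq_iff_eq_mul.2 h4.symm]; simp
      have hbb : b = a'⁻¹ := (inv_eq_of_mul_eq_one_right h5).symm
      have h6 : n * D.e1 (-a⁻¹) * n⁻¹ = D.e2 b := by rw [← hb'', hb1]
      have h7 : n * D.e1 (-a⁻¹) * n⁻¹ = D.e2 (-b) := by
        rw [D.e1_neg, D.e2_neg, hbb, map_inv, map_inv, ← ha1]
        have : n * ((D.e1 a)⁻¹ * j) * n⁻¹ = (n * (D.e1 a)⁻¹ * n⁻¹) * (n * j * n⁻¹) := by group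
        rw [this, hnj]
        group
      rw [h6] at h7
      have h8 : b = -b := D.inj2 h7
      have h9 : b * b⁻¹ = -b * b⁻¹ := by rw [← h8]
      apply sl_one_ne_neg t2
      simpa using h9
    · have hb'' : b' = a⁻¹ := (eq_inv_of_mul_eq_one_left h4)
      have hbb : b = -a'⁻¹ := by
        rw [← inv_mul_eq_iff_eq_mul.2 h5.symm]; simp
      have h6 : n * D.e1 (a⁻¹) * n⁻¹ = D.e2 b := by rw [← hb'', hb1]
      have h7 : n * D.e1 (a⁻¹) * n⁻¹ = D.e2 (-b) := by
        rw [hbb, neg_neg, map_inv, map_inv, ← ha1]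
        group
      rw [h6] at h7
      have h8 : b = -b := D.inj2 h7
      have h9 : b * b⁻¹ = -b * b⁻¹ := by rw [← h8]
      apply sl_one_ne_neg t2
      simpa using h9
  -- the Sylow subgroup
  obtain ⟨S, hSj, hSn⟩ := H.two_central t1 t2 (zpowers n) (isPGroup_zpowers hn2) (by
    intro q hq
    obtain ⟨k, rfl⟩ := mem_zpowers_iff.1 hq
    exact ((show Commute n j from hnj).zpow_left k).eq)
  have hnS : n ∈ S := hSn (mem_zpowers n)
  have hSC : (S : Subgroup G) ≤ centralizer ({j} : Set G) := by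
    intro s hs
    rw [mem_centralizer_singleton_iff]
    exact hSj s hs
  have hjS : j ∈ S := by rw [← hnn]; exact mul_mem hnS hnS
  -- involutions of `S` are in `Y`
  have hinvS : ∀ s ∈ S, s * s = 1 → s ∈ D.Y := by
    intro s hs hss
    by_contra hsY
    have h3 : n * s ∈ D.Y := H.half S S.2 hSj n hnS s hs hnY hsY
    have h4 : n⁻¹ * s ∈ D.Y := by
      have : n⁻¹ * s = j * (n * s) := by
        rw [inv_mul_eq_iff_eq_mul, ← mul_assoc, ← mul_assoc, hnj, mul_assoc j n n, hnn, hjj, one_mul]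
      rw [this]
      exact mul_mem D.j_mem h3
    have h5 := hno _ h4
    rw [mul_inv_cancel_left] at h5
    exact h5 hss
  let M : Subgroup G := (S : Subgroup G) ⊓ D.Y
  have hMidx : M.relIndex (S : Subgroup G) = 2 := by
    rw [Subgroup.relIndex_eq_two_iff]
    refine ⟨n, hnS, ?_⟩
    intro b hb
    by_cases hbY : b ∈ D.Y
    · right
      refine ⟨⟨hb, hbY⟩, ?_⟩
      rintro ⟨-, h3⟩
      exact hnY ((mul_mem_cancel_left hbY).1 h3)
    · left
      exact ⟨⟨mul_mem hb hnS, H.half S S.2 hSj b hb n hnS hbY hnY⟩, fun h3 => hbY h3.2⟩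
  -- a homomorphism not killing `n`
  have hf : ∃ f : G →* ℤˣ, f n ≠ 1 := by
    by_contra hcon
    push Not at hcon
    obtain ⟨i, k, hi, hk, hik⟩ := SLNormal.exists_pair (F := F₁) h1
    -- the elements `d₁, d₂`
    have hd : ∀ x : SL2 F₁, x * x = -1 → n * (D.e1 x * (n * D.e1 x * n⁻¹)) = (D.e1 x * (n * D.e1 x * n⁻¹)) * n := by
      intro x hx
      obtain ⟨y, hy1, hy2⟩ := hθ x
      rw [hy1]
      have e : n * (D.e1 x * D.e2 y) = (n * D.e1 x * n⁻¹) * (n * D.e2 y * n⁻¹) * n := by group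
      rw [e, hy1, hy2, D.comm]
    have hdd : ∀ x : SL2 F₁, x * x = -1 → (D.e1 x * (n * D.e1 x * n⁻¹)) * (D.e1 x * (n * D.e1 x * n⁻¹)) = 1 := by
      intro x hx
      obtain ⟨y, hy1, hy2⟩ := hθ x
      have hyy : D.e2 (y * y) = j := by
        have : D.e2 (y * y) = n * (D.e1 (x * x)) * n⁻¹ := by
          rw [map_mul, ← hy1, map_mul]; group
        rw [this, hx, D.neg1, hnj, mul_inv_cancel_right]
      rw [hy1, D.mul_mul, hx, D.neg1, hyy, hjj]
    set d₁ := D.e1 i * (n * D.e1 i * n⁻¹) with hd₁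
    set d₂ := D.e1 k * (n * D.e1 k * n⁻¹) with hd₂
    have hdY : ∀ x : SL2 F₁, (D.e1 x * (n * D.e1 x * n⁻¹)) ∈ D.Y := by
      intro x
      obtain ⟨y, hy1, hy2⟩ := hθ x
      rw [hy1]
      exact ⟨x, y, rfl⟩
    have hd12 : d₁ * d₂ = d₂ * d₁ := by
      obtain ⟨y, hy1, hy2⟩ := hθ i
      obtain ⟨y', hy1', hy2'⟩ := hθ k
      have hyy : D.e2 (y * y') = D.e2 (y' * y) * j := by
        have e1 : D.e2 (y * y') = n * (D.e1 (i * k)) * n⁻¹ := by
          rw [map_mul, ← hy1, ← hy1', map_mul]; group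
        have e2 : D.e2 (y' * y) = n * (D.e1 (k * i)) * n⁻¹ := by
          rw [map_mul, ← hy1, ← hy1', map_mul]; group
        rw [e1, e2, hik, D.e1_neg]
        have : n * D.e1 (k * i) * n⁻¹ * j = n * D.e1 (k * i) * (n⁻¹ * j * n) * n⁻¹ := by group
        rw [this]
        have e3 : n⁻¹ * j * n = j := by
          rw [mul_assoc, ← hnj, inv_mul_cancel_left]
        rw [e3]; group
      rw [hd₁, hd₂, hy1, hy1', D.mul_mul, D.mul_mul, hyy, hik, D.e1_neg]
      have e4 := D.e2_j (y' * y)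
      rw [e4]
      have : D.e1 (k * i) * j * (j * D.e2 (y' * y)) = D.e1 (k * i) * (j * j) * D.e2 (y' * y) := by group
      rw [this, hjj, mul_one]
    have hnd1 : n * d₁ = d₁ * n := hd i hi
    have hnd2 : n * d₂ = d₂ * n := hd k hk
    have hd1d1 : d₁ * d₁ = 1 := hdd i hi
    have hd2d2 : d₂ * d₂ = 1 := hdd k hk
    have hR : IsPGroup 2 (zpowers d₁ ⊔ zpowers d₂ : Subgroup G) := by
      apply IsPGroup.to_sup_of_normal_right' (isPGroup_zpowers (isTwo_of_sq hd1d1)) (isPGroup_zpowers (isTwo_of_sq hd2d2))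
      rw [zpowers_le, mem_normalizer_iff]
      intro h
      have hc : ∀ y ∈ zpowers d₂, d₁ * y * d₁⁻¹ = y := by
        intro y hy
        obtain ⟨m, rfl⟩ := mem_zpowers_iff.1 hy
        rw [((show Commute d₁ d₂ from hd12).zpow_right m).eq, mul_inv_cancel_right]
      constructor
      · intro hh
        rw [hc h hh]; exact hh
      · intro hh
        have h3 := hc _ hh
        have h4 : d₁ * h * d₁⁻¹ = h := by
          have e1 : d₁ * (d₁ * h * d₁⁻¹) * d₁⁻¹ = (d₁ * d₁) * h * (d₁ * d₁)⁻¹ := by group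
          rw [e1, hd1d1] at h3
          simpa using h3.symm
        rw [h4] at hh
        exact hh
    have hRn : ∀ r ∈ (zpowers d₁ ⊔ zpowers d₂ : Subgroup G), r * n = n * r := by
      have h3 : (zpowers d₁ ⊔ zpowers d₂ : Subgroup G) ≤ centralizer {n} := by
        rw [sup_le_iff, zpowers_le, zpowers_le, mem_centralizer_singleton_iff, mem_centralizer_singleton_iff]
        exact ⟨hnd1.symm, hnd2.symm⟩
      intro r hr
      exact mem_centralizer_singleton_iff.1 (h3 hr)
    obtain ⟨g, hgM, hgR⟩ := ExtTrans.exists_extremal S M inf_le_left hMidx n 2 hn4 (by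
      intro l g hg
      refine ⟨hg, hinvS _ hg ?_⟩
      have e1 : g * n ^ 2 ^ (l + 1) * g⁻¹ * (g * n ^ 2 ^ (l + 1) * g⁻¹) = g * (n ^ 2 ^ (l + 1) * n ^ 2 ^ (l + 1)) * g⁻¹ := by
        group
      have e2 : n ^ 2 ^ (l + 1) * n ^ 2 ^ (l + 1) = 1 := by
        rw [← pow_add, ← two_mul, ← pow_succ', show l + 1 + 1 = 2 + l by ring, pow_add, pow_mul, hn4, one_pow]
      rw [e1, e2]; group) hcon _ hR hRn
    -- the images
    have gconj : ∀ a b : G, g * a * g⁻¹ * (g * b * g⁻¹) = g * (a * b) * g⁻¹ := by intro a b; group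
    have ginj : ∀ a b : G, g * a * g⁻¹ = g * b * g⁻¹ → a = b := by
      intro a b h
      exact mul_left_cancel (mul_right_cancel h)
    have gone : g * 1 * g⁻¹ = 1 := by group
    obtain ⟨c, d, hcd⟩ := hgM.2
    have hmm : (g * n * g⁻¹) * (g * n * g⁻¹) = g * j * g⁻¹ := by rw [gconj, hnn]
    -- `g j g⁻¹ ≠ j`
    have hgj : g * j * g⁻¹ ≠ j := by
      intro h
      have h3 : g * j = j * g := mul_inv_eq_iff_eq_mul.1 h
      have h4 : g⁻¹ * j = j * g⁻¹ := by
        rw [inv_mul_eq_iff_eq_mul, ← mul_assoc, h3, mul_inv_cancel_right]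
      apply hnY
      have h5 := H.norm g⁻¹ h4 _ hgM.2
      have e : g⁻¹ * (g * n * g⁻¹) * g⁻¹⁻¹ = n := by group
      rwa [e] at h5
    have hccdd : D.e1 (c * c) * D.e2 (d * d) = g * j * g⁻¹ := by rw [← hmm, ← hcd, D.mul_mul]
    have hsq1 : (D.e1 (c * c) * D.e2 (d * d)) * (D.e1 (c * c) * D.e2 (d * d)) = 1 := by
      rw [hccdd, gconj, hjj, gone]
    obtain ⟨hcc, hdd'⟩ : (c * c) * (c * c) = -1 ∧ (d * d) * (d * d) = -1 := by
      rcases D.sq_eq_one t1 t2 hsq1 with h | h | h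
      · exfalso
        rw [hccdd] at h
        exact hj1 (ginj _ _ (h.trans gone.symm))
      · exfalso
        rw [hccdd] at h
        exact hgj h
      · exact h
    -- involutions of `S` commuting with `g n g⁻¹`
    have hinv : ∀ u ∈ S, u * u = 1 → u ≠ 1 → u * (g * n * g⁻¹) = (g * n * g⁻¹) * u →
        u = j ∨ u = g * j * g⁻¹ ∨ u = g * j * g⁻¹ * j := by
      intro u hu huu hu1 huc
      obtain ⟨r, r', rfl⟩ := hinvS u hu huu
      rw [← hcd] at huc
      rcases D.sq_eq_one t1 t2 huu with h | h | ⟨hr, hr'⟩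
      · exact absurd h hu1
      · left; exact h
      · right
        rcases D.comm_cases huc with ⟨h3, h4⟩ | ⟨h3, -⟩
        · -- `r = ± c²`
          have g1 : r = c * c ∨ r = -(c * c) := by
            have h5 : r * (c * c) = (c * c) * r := by rw [← mul_assoc, h3, mul_assoc, h3, ← mul_assoc]
            have h6 : (r * (c * c)) * (r * (c * c)) = 1 := by
              calc (r * (c * c)) * (r * (c * c)) = (r * r) * ((c * c) * (c * c)) := by
                    rw [mul_assoc, ← mul_assoc (c * c) r, ← h5]; simp only [mul_assoc]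
                _ = 1 := by rw [hr, hcc]; simp
            rcases SLTwoFour.eq_one_or_neg_one_of_mul_self t1 _ h6 with h7 | h7
            · right
              have : r = (c * c)⁻¹ := eq_inv_of_mul_eq_one_left h7
              rw [this]
              apply inv_eq_of_mul_eq_one_right
              rw [mul_neg, hcc, neg_neg]
            · left
              have : r = -(c * c)⁻¹ := by rw [← mul_inv_eq_iff_eq_mul.2 h7.symm]; simp
              rw [this]
              have h8 : (c * c)⁻¹ = -(c * c) := by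
                apply inv_eq_of_mul_eq_one_right
                rw [mul_neg, hcc, neg_neg]
              rw [h8, neg_neg]
          have g2 : r' = d * d ∨ r' = -(d * d) := by
            have h5 : r' * (d * d) = (d * d) * r' := by rw [← mul_assoc, h4, mul_assoc, h4, ← mul_assoc]
            have h6 : (r' * (d * d)) * (r' * (d * d)) = 1 := by
              calc (r' * (d * d)) * (r' * (d * d)) = (r' * r') * ((d * d) * (d * d)) := by
                    rw [mul_assoc, ← mul_assoc (d * d) r', ← h5]; simp only [mul_assoc]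
                _ = 1 := by rw [hr', hdd']; simp
            rcases SLTwoFour.eq_one_or_neg_one_of_mul_self t2 _ h6 with h7 | h7
            · right
              have : r' = (d * d)⁻¹ := eq_inv_of_mul_eq_one_left h7
              rw [this]
              apply inv_eq_of_mul_eq_one_right
              rw [mul_neg, hdd', neg_neg]
            · left
              have : r' = -(d * d)⁻¹ := by rw [← mul_inv_eq_iff_eq_mul.2 h7.symm]; simp
              rw [this]
              have h8 : (d * d)⁻¹ = -(d * d) := by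
                apply inv_eq_of_mul_eq_one_right
                rw [mul_neg, hdd', neg_neg]
              rw [h8, neg_neg]
          rw [← hccdd]
          rcases g1 with rfl | rfl <;> rcases g2 with rfl | rfl
          · left; rfl
          · right; rw [D.e2_neg, mul_assoc]
          · right; rw [D.e1_neg, mul_assoc, mul_assoc, D.e2_j]
          · left
            rw [D.e1_neg, D.e2_neg, D.e2_j]
            have : D.e1 (c * c) * j * (j * D.e2 (d * d)) = D.e1 (c * c) * (j * j) * D.e2 (d * d) := by group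
            rw [this, hjj, mul_one]
        · exfalso
          have h5 : c * r = -(r * c) := by rw [h3, neg_neg]
          have h6 := sl_anti t1 h5
          rw [h6] at hcc
          apply sl_one_ne_neg t1
          simpa using hcc
    have hd1S : g * d₁ * g⁻¹ ∈ S := hgR d₁ (mem_sup_left (mem_zpowers _))
    have hd2S : g * d₂ * g⁻¹ ∈ S := hgR d₂ (mem_sup_right (mem_zpowers _))
    -- `d₁, d₂, d₁ d₂` are not in `{1, j}`
    have hne : ∀ x : SL2 F₁, x * x = -1 → (D.e1 x * (n * D.e1 x * n⁻¹)) ≠ 1 ∧ (D.e1 x * (n * D.e1 x * n⁻¹)) ≠ j := by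
      intro x hx
      obtain ⟨y, hy1, -⟩ := hθ x
      obtain ⟨na, na'⟩ := sl_ne_of_sq t1 hx
      rw [hy1]
      constructor
      · intro h
        rcases D.mul_eq_one h with h3 | h3
        · exact na h3.1
        · exact na' h3.1
      · intro h
        rcases D.mul_eq_j h with h3 | h3
        · exact na' h3.1
        · exact na h3.1
    have hne1 := hne i hi
    have hne2 := hne k hk
    have h12 : d₁ ≠ d₂ ∧ d₁ ≠ d₂ * j := by
      obtain ⟨y, hy1, -⟩ := hθ i
      obtain ⟨y', hy1', -⟩ := hθ k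
      have hki : i ≠ k ∧ i ≠ -k := by
        constructor
        · rintro rfl
          rw [hi, neg_neg] at hik
          exact sl_one_ne_neg t1 hik.symm
        · rintro rfl
          rw [neg_mul, mul_neg, hk] at hik
          apply sl_one_ne_neg t1
          simpa using hik
      constructor
      · intro h
        rw [hd₁, hd₂, hy1, hy1'] at h
        rcases D.mul_eq_mul h with h3 | h3
        · exact hki.1 h3.1
        · exact hki.2 h3.1
      · intro h
        rw [hd₁, hd₂, hy1, hy1', mul_assoc, ← D.e2_neg] at h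
        rcases D.mul_eq_mul h with h3 | h3
        · exact hki.1 h3.1
        · exact hki.2 h3.1
    have i1 := hinv _ hd1S (by rw [gconj, hd1d1, gone]) (fun h => hne1.1 (ginj _ _ (h.trans gone.symm)))
      (by rw [gconj, gconj, hnd1])
    have i2 := hinv _ hd2S (by rw [gconj, hd2d2, gone]) (fun h => hne2.1 (ginj _ _ (h.trans gone.symm)))
      (by rw [gconj, gconj, hnd2])
    have hd1x : g * d₁ * g⁻¹ ≠ g * j * g⁻¹ := fun h => hne1.2 (ginj _ _ h)
    have hd2x : g * d₂ * g⁻¹ ≠ g * j * g⁻¹ := fun h => hne2.2 (ginj _ _ h)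
    have hd12x : g * d₁ * g⁻¹ ≠ g * d₂ * g⁻¹ := fun h => h12.1 (ginj _ _ h)
    have hxj : (g * j * g⁻¹) * j = j * (g * j * g⁻¹) := by rw [← hccdd]; exact D.Y_j ⟨_, _, rfl⟩
    have hxx : (g * j * g⁻¹) * (g * j * g⁻¹) = 1 := by rw [gconj, hjj, gone]
    apply h12.2
    apply ginj
    rw [← gconj d₂ j]
    rcases i1 with h | h | h <;> rcases i2 with h' | h' | h'
    · exact absurd (h.trans h'.symm) hd12x
    · exact absurd h' hd2x
    · rw [h, h', mul_assoc, ← hxj, ← mul_assoc, hxx, one_mul]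
    · exact absurd h hd1x
    · exact absurd h hd1x
    · exact absurd h hd1x
    · rw [h, h', hxj]
    · exact absurd h' hd2x
    · exact absurd (h.trans h'.symm) hd12x
  obtain ⟨f, hf⟩ := hf
  have hfn : f n = -1 := (Int.units_eq_one_or (f n)).resolve_left hf
  -- the kernel
  have hE : ∀ g : G, g * j * g⁻¹ ∈ D.Y → g * j * g⁻¹ = j := by
    refine D.factE h1 h2 f.ker (fun y hy _ => D.hom_Y h1 h2 isPGroup_units f hy) ?_
    intro c hc hcj hc2
    by_contra hcY
    obtain ⟨S', hS'j, hS'c⟩ := H.two_central t1 t2 (zpowers c) (isPGroup_zpowers hc2) (by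
      intro q hq
      obtain ⟨k, rfl⟩ := mem_zpowers_iff.1 hq
      exact ((show Commute c j from hcj).zpow_left k).eq)
    have hS'C : (S' : Subgroup G) ≤ centralizer ({j} : Set G) := by
      intro s hs
      rw [mem_centralizer_singleton_iff]
      exact hS'j s hs
    obtain ⟨d, hd, hdn⟩ := conj_into S' hS'C (mem_centralizer_singleton_iff.2 hnj) hn2
    have hdj : d * j = j * d := mem_centralizer_singleton_iff.1 hd
    have hdY : d * n * d⁻¹ ∉ D.Y := by
      intro h
      apply hnY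
      have hdj' : d⁻¹ * j = j * d⁻¹ := by
        rw [inv_mul_eq_iff_eq_mul, ← mul_assoc, hdj, mul_inv_cancel_right]
      have h5 := H.norm d⁻¹ hdj' _ h
      have e : d⁻¹ * (d * n * d⁻¹) * d⁻¹⁻¹ = n := by group
      rwa [e] at h5
    have h3 := H.half S' S'.2 hS'j _ hdn c (hS'c (mem_zpowers c)) hdY hcY
    have h4 := D.hom_Y h1 h2 isPGroup_units f h3
    have h5 : f (d * n * d⁻¹) = -1 := by
      rw [map_mul, map_mul, map_inv, hfn]
      simp
    have h6 : f c = 1 := hc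
    rw [map_mul, h5, h6] at h4
    exact absurd h4 (by decide)
  refine zstar_form S j ?_ hjS ?_
  · rw [orderOf_eq_prime_iff]
    exact ⟨by rw [pow_two]; exact hjj, hj1⟩
  · intro g hg
    apply hE
    apply hinvS _ hg
    have : g * j * g⁻¹ * (g * j * g⁻¹) = g * (j * j) * g⁻¹ := by group
    rw [this, hjj]; group

end Duo

end Cfsg.Agent.H311
end
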